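import Cfsg.Agent.PComp40.Defs
import Cfsg.Agent.PComp40.Group.Basic
import Cfsg.Agent.OddChar.Normal
import Cfsg.Agent.Lib.CharCore.Complete
import Cfsg.Agent.Lib.BlocksCore.PPart

/-!
# The principal block on the sections of the Sylow subgroup

The members of the principal block are constant on the sections of the nontrivial elements of `P`,
their values there are orthogonal, and so the multiplicities in the restrictions to the kernel of a
frame have the inner products of the induced functions, up to a term at the identity.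
-/

set_option autoImplicit false
set_option linter.unusedSectionVars false

namespace Cfsg.Agent.PComp40

open BlocksDefect BlocksCore BlocksCore.CyclicPrincipal
open scoped ComplexConjugate Classical

universe u

variable {G : Type u} [Group G] [Fintype G] {p : ℕ} [hpf : Fact p.Prime] {M : Ideal Cfsg.AlgInt}
  {P : Sylow p G}

theorem isPPart_self {x : G} (hx : x ∈ (P : Subgroup G)) : IsPPart p x x := by
  obtain ⟨k, hk⟩ := IsPGroup.iff_orderOf.mp P.2 ⟨x, hx⟩
  rw [Subgroup.orderOf_mk] at hk
  exact ⟨1, mul_one _, Commute.one_right _, ⟨k, hk⟩,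
    by rw [orderOf_one]; exact hpf.out.not_dvd_one⟩

theorem conj_apply_one (ξ : Cfsg.IrrCharacter G) : conj ((ξ : G → ℂ) 1) = (ξ : G → ℂ) 1 := by
  rw [← CharCore.irr_apply_inv, inv_one]

/-- The members of the principal block are constant on the sections of `P`. -/
theorem apply_section (hK : Kernels P) (hM : IsPModular p M) {ξ : Cfsg.IrrCharacter G}
    (hξ : ξ ∈ members M G) {g s x : G} (hg : IsPPart p g s) (hx : x ∈ (P : Subgroup G))
    (hx1 : x ≠ 1) (hc : IsConj x s) : (ξ : G → ℂ) g = (ξ : G → ℂ) x := by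
  obtain ⟨c, hc⟩ := isConj_iff.1 hc.symm
  have hg' := isPPart_conj hg c
  rw [hc] at hg'
  rw [← irr_class ξ g c]
  obtain ⟨w, hw, hxw, ⟨k, hk⟩, hwo⟩ := hg'
  rw [← hw]
  obtain ⟨K, hKn, hKp, hreg, -⟩ := hK x hx hx1
  exact SectionKernel.apply_mul hM hk hKp hreg (mem_members.1 hξ)
    (y := ⟨w, Subgroup.mem_centralizer_singleton_iff.2 hxw.eq.symm⟩)
    (hreg _ (by rwa [Subgroup.orderOf_mk]))

/-- The column relations of the principal block at the sections of `P`; at a `p`-regular `g`
the part `s` is `1`. -/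
theorem sum_section (hK : Kernels P) (hM : IsPModular p M) {g s x : G} (hg : IsPPart p g s)
    (hx : x ∈ (P : Subgroup G)) (hx1 : x ≠ 1) :
    ∑ ξ ∈ members M G, (ξ : G → ℂ) g * conj ((ξ : G → ℂ) x) =
      if IsConj x s then
        (Nat.card ↥((P : Subgroup G) ⊓ Subgroup.centralizer ({x} : Set G)) : ℂ)
      else 0 := by
  have := isPrime hM
  split_ifs with hc
  · obtain ⟨K, hKn, hKp, hreg, hKi⟩ := hK x hx hx1
    obtain ⟨k, hk⟩ := IsPGroup.iff_orderOf.mp P.2 ⟨x, hx⟩
    rw [Subgroup.orderOf_mk] at hk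
    have hnorm := SectionKernel.sum_norm hM hk hKp hreg
    rw [hKi] at hnorm
    rw [← hnorm, ← Finset.sum_subset (Finset.subset_univ (members M G)) (fun ξ _ hξ =>
      Set.indicator_of_notMem (fun h => hξ (mem_members.mpr h)) _)]
    refine Finset.sum_congr rfl fun ξ hξ => ?_
    rw [Set.indicator_of_mem (mem_members.mp hξ), apply_section hK hM hξ hg hx hx1 hc,
      CharCore.irr_apply_inv]
  · have h := blockOrth_sections hM (isPBlock_principal (G := G)) hg (isPPart_self hx)
      fun h => hc h.symm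
    rw [← h, ← finsum_mem_coe_finset]
    refine finsum_mem_congr ?_ fun ξ _ => by rw [CharCore.irr_apply_inv]
    ext ξ
    simp [mem_members]

theorem sum_section_one (hK : Kernels P) (hM : IsPModular p M) {x : G}
    (hx : x ∈ (P : Subgroup G)) (hx1 : x ≠ 1) :
    ∑ ξ ∈ members M G, (ξ : G → ℂ) x * (ξ : G → ℂ) 1 = 0 := by
  have h := sum_section hK hM (isPPart_self (one_mem (P : Subgroup G))) hx hx1
  rw [if_neg fun hc => hx1 (isConj_one_left.1 hc)] at h
  have h' := congrArg conj h
  rw [map_sum, map_zero] at h'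
  rw [← h']
  refine Finset.sum_congr rfl fun ξ _ => ?_
  rw [map_mul, Complex.conj_conj, conj_apply_one, mul_comm]

namespace Frame

variable {L : Type u} [Group L] [Fintype L] (F : Frame P L)

theorem card_K : Nat.card F.K = Nat.card (P : Subgroup G) := Nat.card_congr F.iso.toEquiv

theorem mult_def (θ : F.K → ℂ) (f : G → ℂ) :
    F.mult θ f = (Nat.card F.K : ℂ)⁻¹ * ∑ k : F.K, f (F.ι k) * conj (θ k) := rfl

/-- An induced function on the kernel, as a sum over the class weighted by the centralizer. -/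
theorem indFun_apply_coe (h : F.K → ℂ) (k : F.K) :
    Cfsg.indFun F.K h (k : L) = (Nat.card F.K : ℂ)⁻¹ * ∑ k' : F.K,
      if IsConj (k : L) (k' : L) then
        (Nat.card (Subgroup.centralizer ({(k : L)} : Set L)) : ℂ) * h k'
      else 0 := by
  rw [OddChar.indFun_coe, ← Finset.sum_fiberwise (Finset.univ : Finset L)
    (fun l => (⟨l * k * l⁻¹, F.normal.conj_mem k k.2 l⟩ : F.K))]
  refine congrArg _ (Finset.sum_congr rfl fun k' _ => ?_)
  rw [Finset.sum_congr rfl (g := fun _ => h k') fun l hl => by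
    show h _ = h k'
    rw [(Finset.mem_filter.mp hl).2], Finset.sum_const, nsmul_eq_mul]
  split_ifs with hc
  · obtain ⟨l₀, hl₀⟩ := isConj_iff.1 hc
    congr 2
    rw [← Nat.card_eq_finsetCard]
    refine Nat.card_congr
      { toFun := fun l => ⟨l₀⁻¹ * l.1, Subgroup.mem_centralizer_singleton_iff.2 ?_⟩
        invFun := fun c => ⟨l₀ * c.1, Finset.mem_filter.2 ⟨Finset.mem_univ _, Subtype.ext ?_⟩⟩
        left_inv := fun l => by ext; simp
        right_inv := fun c => by ext; simp }
    · have hl : l.1 * k * l.1⁻¹ = (k' : L) :=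
        congrArg Subtype.val (Finset.mem_filter.mp l.2).2
      rw [← hl₀] at hl
      calc l₀⁻¹ * l.1 * k = l₀⁻¹ * (l.1 * k * l.1⁻¹) * l.1 := by group
        _ = k * (l₀⁻¹ * l.1) := by rw [hl]; group
    · show l₀ * c.1 * k * (l₀ * c.1)⁻¹ = (k' : L)
      rw [show l₀ * c.1 * (k : L) * (l₀ * c.1)⁻¹ = l₀ * (c.1 * k) * c.1⁻¹ * l₀⁻¹ by group,
        Subgroup.mem_centralizer_singleton_iff.1 c.2, ← hl₀]
      group
  · rw [Finset.filter_eq_empty_iff.2 fun l _ hl => hc (isConj_iff.2 ⟨l, congrArg Subtype.val hl⟩)]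
    simp

/-- The column relations, read on the kernel. -/
theorem sum_apply_mul_conj (hK : Kernels P) (hM : IsPModular p M) {k : F.K} (hk : k ≠ 1)
    (k' : F.K) :
    ∑ ξ ∈ members M G, (ξ : G → ℂ) (F.ι k') * conj ((ξ : G → ℂ) (F.ι k)) =
      if IsConj (k : L) (k' : L) then
        (Nat.card (Subgroup.centralizer ({(k : L)} : Set L)) : ℂ)
      else 0 := by
  rw [sum_section hK hM (isPPart_self (F.ι_mem k')) (F.ι_mem k) (F.ι_ne_one hk),
    F.card_centralizer hk]
  exact if_congr (F.conj_iff k k') rfl rfl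

/-- The multiplicities are orthogonal to the nontrivial values as the induced function is. -/
theorem sum_mult_apply (hK : Kernels P) (hM : IsPModular p M) {k : F.K} (hk : k ≠ 1)
    (f : F.K → ℂ) :
    ∑ ξ ∈ members M G, F.mult f (ξ : G → ℂ) * conj ((ξ : G → ℂ) (F.ι k)) =
      conj (Cfsg.indFun F.K f (k : L)) := by
  rw [F.indFun_apply_coe, map_mul, map_inv₀, map_natCast, map_sum]
  simp only [mult_def, Finset.mul_sum, Finset.sum_mul]
  rw [Finset.sum_comm]
  refine Finset.sum_congr rfl fun k' _ => ?_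
  calc _ = (Nat.card F.K : ℂ)⁻¹ * conj (f k') *
        ∑ ξ ∈ members M G, (ξ : G → ℂ) (F.ι k') * conj ((ξ : G → ℂ) (F.ι k)) := by
        rw [Finset.mul_sum]
        exact Finset.sum_congr rfl fun ξ _ => by ring
    _ = _ := by
        rw [F.sum_apply_mul_conj hK hM hk k']
        split_ifs with hc
        · rw [map_mul, map_natCast]; ring
        · simp

/-- The multiplicities weighted by the degrees. -/
theorem sum_mult_degree (hK : Kernels P) (hM : IsPModular p M) (f : F.K → ℂ) :
    ∑ ξ ∈ members M G, F.mult f (ξ : G → ℂ) * (ξ : G → ℂ) 1 =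
      conj (f 1) * (∑ ξ ∈ members M G, (ξ : G → ℂ) 1 ^ 2) / (Nat.card (P : Subgroup G) : ℂ) := by
  simp only [mult_def, Finset.mul_sum, Finset.sum_mul, Finset.sum_div]
  rw [Finset.sum_comm, Finset.sum_eq_single_of_mem (1 : F.K) (Finset.mem_univ _) fun k _ hk => ?_]
  · exact Finset.sum_congr rfl fun ξ _ => by rw [map_one, card_K]; ring
  · calc _ = (Nat.card F.K : ℂ)⁻¹ * conj (f k) *
          ∑ ξ ∈ members M G, (ξ : G → ℂ) (F.ι k) * (ξ : G → ℂ) 1 := by
          rw [Finset.mul_sum]
          exact Finset.sum_congr rfl fun ξ _ => by ring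
      _ = 0 := by rw [sum_section_one hK hM (F.ι_mem k) (F.ι_ne_one hk), mul_zero]

/-- The inner products of the multiplicities. -/
theorem sum_mult_mul (hK : Kernels P) (hM : IsPModular p M) (f g : F.K → ℂ) :
    ∑ ξ ∈ members M G, F.mult f (ξ : G → ℂ) * conj (F.mult g (ξ : G → ℂ)) =
      Cfsg.classInner (Cfsg.indFun F.K g) (Cfsg.indFun F.K f) +
        conj (f 1) * g 1 * ((∑ ξ ∈ members M G, (ξ : G → ℂ) 1 ^ 2) /
          (Nat.card (P : Subgroup G) : ℂ) ^ 2 -
            (F.K.index : ℂ) / (Nat.card (P : Subgroup G) : ℂ)) := by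
  set S : ℂ := ∑ ξ ∈ members M G, (ξ : G → ℂ) 1 ^ 2 with hS
  set q : ℂ := (Nat.card (P : Subgroup G) : ℂ)
  have key : ∀ k : F.K, ∑ ξ ∈ members M G, F.mult f (ξ : G → ℂ) * conj ((ξ : G → ℂ) (F.ι k)) =
      conj (Cfsg.indFun F.K f (k : L)) +
        if k = 1 then conj (f 1) * (S / q - (F.K.index : ℂ)) else 0 := by
    intro k
    split_ifs with hk
    · subst hk
      rw [map_one, Subgroup.coe_one, CharInd.indFun_apply_one, map_mul, map_natCast]
      simp only [conj_apply_one]
      rw [F.sum_mult_degree hK hM]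
      ring
    · rw [add_zero, F.sum_mult_apply hK hM hk]
  calc _ = ∑ k : F.K, (Nat.card F.K : ℂ)⁻¹ * g k *
        ∑ ξ ∈ members M G, F.mult f (ξ : G → ℂ) * conj ((ξ : G → ℂ) (F.ι k)) := by
        simp only [Finset.mul_sum]
        rw [Finset.sum_comm]
        refine Finset.sum_congr rfl fun ξ _ => ?_
        rw [F.mult_def g, map_mul, map_inv₀, map_natCast, map_sum, Finset.mul_sum,
          Finset.mul_sum]
        exact Finset.sum_congr rfl fun k _ => by rw [map_mul, Complex.conj_conj]; ring
    _ = _ := by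
        simp only [key, mul_add, Finset.sum_add_distrib, mul_ite, mul_zero]
        rw [Finset.sum_ite_eq' Finset.univ (1 : F.K), if_pos (Finset.mem_univ _),
          CharInd.classInner_indFun_left F.K g (CharInd.isClassFunction_indFun F.K f),
          CharCore.classInner_def, Finset.mul_sum]
        congr 1
        · exact Finset.sum_congr rfl fun k _ => by ring
        · rw [card_K]; ring

/-- The restriction of an irreducible character has natural multiplicities. -/
theorem exists_nat_mult (θ : Cfsg.IrrCharacter F.K) (ξ : Cfsg.IrrCharacter G) :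
    ∃ n : ℕ, F.mult (θ : F.K → ℂ) (ξ : G → ℂ) = n :=
  CharCore.IsCharacter.exists_classInner_irr_eq_natCast
    (CharCore.isCharacter_comp (CharCore.irr_isCharacter ξ) F.ι) θ

/-- The restriction of an irreducible character in terms of its multiplicities. -/
theorem res_eq_sum (ξ : Cfsg.IrrCharacter G) (k : F.K) :
    (ξ : G → ℂ) (F.ι k) =
      ∑ θ : Cfsg.IrrCharacter F.K, F.mult (θ : F.K → ℂ) (ξ : G → ℂ) * (θ : F.K → ℂ) k := by
  refine (congrFun (CharCore.IsCharacter.eq_sum_classInner
    (CharCore.isCharacter_comp (CharCore.irr_isCharacter ξ) F.ι)) k).trans ?_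
  rw [Finset.sum_apply]
  rfl

/-- The restriction of the principal character. -/
theorem mult_one (θ : Cfsg.IrrCharacter F.K) :
    F.mult (θ : F.K → ℂ) (oneIrr G : G → ℂ) = if θ = oneIrr F.K then 1 else 0 := by
  refine ((CharCore.classInner_irr (oneIrr F.K) θ) :).trans ?_
  exact if_congr eq_comm rfl rfl

/-- A class function of `G` read on the kernel is a class function of the frame. -/
theorem isClassFunction_res {f : G → ℂ} (hf : Cfsg.IsClassFunction G f) :
    Cfsg.IsClassFunction L (Cfsg.extendByZero F.K (F.res f)) := by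
  intro g h
  by_cases hg : g ∈ F.K
  · rw [CharInd.extendByZero_mem _ hg, CharInd.extendByZero_mem _ (F.normal.conj_mem g hg h)]
    obtain ⟨c, hc⟩ := isConj_iff.1 ((F.conj_iff ⟨g, hg⟩ ⟨_, F.normal.conj_mem g hg h⟩).2
      (isConj_iff.2 ⟨h, rfl⟩))
    show f (F.ι _) = f (F.ι _)
    rw [F.ι_apply ⟨_, F.normal.conj_mem g hg h⟩, ← hc, hf, F.ι_apply]
  · rw [CharInd.extendByZero_notMem _ hg, CharInd.extendByZero_notMem _ fun hm => hg ?_]
    simpa [mul_assoc] using F.normal.conj_mem _ hm h⁻¹

/-- The multiplicities in a class function of `G` as inner products on the frame. -/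
theorem mult_eq_classInner {f : G → ℂ} (hf : Cfsg.IsClassFunction G f) (θ : F.K → ℂ) :
    F.mult θ f =
      Cfsg.classInner (Cfsg.extendByZero F.K (F.res f)) (Cfsg.indFun F.K θ) := by
  rw [← CharCore.conj_classInner (Cfsg.indFun F.K θ),
    CharInd.classInner_indFun_left F.K θ (F.isClassFunction_res hf), CharCore.conj_classInner]
  show Cfsg.classInner (F.res f) θ = _
  exact congrArg (fun v => Cfsg.classInner v θ)
    (funext fun k => (CharInd.extendByZero_mem (F.res f) k.2).symm)

/-- Functions inducing to the same function have the same multiplicities. -/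
theorem mult_congr {f : G → ℂ} (hf : Cfsg.IsClassFunction G f) {θ θ' : F.K → ℂ}
    (h : Cfsg.indFun F.K θ = Cfsg.indFun F.K θ') : F.mult θ f = F.mult θ' f := by
  rw [F.mult_eq_classInner hf, F.mult_eq_classInner hf, h]

end Frame

end Cfsg.Agent.PComp40
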