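import Cfsg.Agent.PComp40.Blocks
import Cfsg.Agent.Coherence.FrobKernel
import Cfsg.Agent.S1514
import Cfsg.Agent.S1522

/-!
# The coherent family of the characters nontrivial on the centre

For a frame of odd order the map `τ α = ∑_{ξ ∈ B₀} ⟨α, res ξ⟩ ξ` is an isometry on the combinations
of induced characters vanishing at `1`; S1514 and S1522 extend it to the characters nontrivial on
the elements of order `p` in the centre of the kernel.
-/

set_option autoImplicit false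

namespace Cfsg.Agent.PComp40

open BlocksDefect BlocksCore.CyclicPrincipal
open scoped ComplexConjugate

universe u

variable {G : Type u} [Group G] {p : ℕ}

namespace Frame

variable {P : Sylow p G} {L : Type u} [Group L] [Fintype L] (F : Frame P L)

/-- The coefficient of a member in the image of a function of the frame. -/
noncomputable def coef (α : L → ℂ) (ξ : G → ℂ) : ℂ :=
  (Nat.card L : ℂ)⁻¹ * ∑ k : F.K, α (k : L) * conj (ξ (F.ι k))

/-- The map to the principal block. -/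
noncomputable def tau [Fintype G] (M : Ideal Cfsg.AlgInt) (α : L → ℂ) : G → ℂ :=
  ∑ ξ ∈ members M G, F.coef α (ξ : G → ℂ) • (ξ : G → ℂ)

theorem coef_add (α β : L → ℂ) (ξ : G → ℂ) :
    F.coef (α + β) ξ = F.coef α ξ + F.coef β ξ := by
  simp only [coef, Pi.add_apply, add_mul, Finset.sum_add_distrib, mul_add]

theorem coef_zsmul (n : ℤ) (α : L → ℂ) (ξ : G → ℂ) :
    F.coef (n • α) ξ = (n : ℂ) * F.coef α ξ := by
  simp only [coef, Pi.smul_apply, zsmul_eq_mul, Finset.mul_sum]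
  exact Finset.sum_congr rfl fun k _ => by ring

/-- The coefficient is the conjugate multiplicity of the restriction, over the index. -/
theorem coef_eq (α : L → ℂ) (ξ : G → ℂ) :
    F.coef α ξ = (F.K.index : ℂ)⁻¹ * conj (F.mult (fun k : F.K => α k) ξ) := by
  simp only [coef, mult, res, Cfsg.classInner, map_mul, map_sum, map_inv₀, map_natCast,
    Complex.conj_conj]
  rw [← mul_assoc, ← mul_inv, ← Nat.cast_mul, F.K.index_mul_card]
  exact congrArg _ (Finset.sum_congr rfl fun k _ => mul_comm _ _)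

/-- A class function living on the kernel is induced from itself, up to the index. -/
theorem indFun_restrict {α : L → ℂ} (hcl : Cfsg.IsClassFunction L α)
    (hsupp : ∀ g, g ∉ F.K → α g = 0) :
    Cfsg.indFun F.K (fun k : F.K => α k) = (F.K.index : ℂ) • α := by
  funext g
  by_cases hg : g ∈ F.K
  · rw [CharInd.indFun_apply, Pi.smul_apply, smul_eq_mul]
    have h : ∀ x : L, Cfsg.extendByZero F.K (fun k : F.K => α k) (x⁻¹ * g * x) = α g := by
      intro x
      have hm : x⁻¹ * g * x ∈ F.K := by simpa using F.normal.conj_mem g hg x⁻¹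
      rw [CharInd.extendByZero_mem _ hm]
      simpa using hcl g x⁻¹
    rw [Finset.sum_congr rfl fun x _ => h x, Finset.sum_const, Finset.card_univ,
      nsmul_eq_mul, ← Nat.card_eq_fintype_card, ← F.K.card_mul_index, Nat.cast_mul, ← mul_assoc,
      ← mul_assoc, inv_mul_cancel₀ (Nat.cast_ne_zero.2 Nat.card_pos.ne'), one_mul]
  · rw [OddChar.indFun_eq_zero_of_notMem F.K _ hg, Pi.smul_apply, hsupp g hg, smul_zero]

theorem coef_ind [Fintype G] (θ : F.K → ℂ) (ξ : Cfsg.IrrCharacter G) :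
    F.coef (Cfsg.indFun F.K θ) (ξ : G → ℂ) = conj (F.mult θ (ξ : G → ℂ)) := by
  have hinv : ∀ (x : L) (k : F.K),
      (ξ : G → ℂ) (F.ι (MulAut.conjNormal x k)) = (ξ : G → ℂ) (F.ι k) := by
    intro x k
    obtain ⟨g, hg⟩ := isConj_iff.1 ((F.conj_iff k (MulAut.conjNormal x k)).2
      (isConj_iff.2 ⟨x, (MulAut.conjNormal_apply x k).symm⟩))
    rw [ι_apply, ι_apply, ← hg]
    exact CharCore.irr_isClassFunction ξ _ g
  have hx : ∀ x : L, ∑ k : F.K, Cfsg.extendByZero F.K θ (x⁻¹ * k * x) *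
      conj ((ξ : G → ℂ) (F.ι k)) = ∑ k : F.K, θ k * conj ((ξ : G → ℂ) (F.ι k)) := by
    intro x
    refine (Fintype.sum_equiv (MulAut.conjNormal x : F.K ≃* F.K).toEquiv _ _ fun k => ?_).symm
    have e : x⁻¹ * ((MulAut.conjNormal x k : F.K) : L) * x = (k : L) := by
      rw [MulAut.conjNormal_apply]; group
    show θ k * _ = Cfsg.extendByZero F.K θ _ * conj ((ξ : G → ℂ) (F.ι (MulAut.conjNormal x k)))
    rw [hinv x k]
    erw [e]
    rw [CharInd.extendByZero_mem θ k.2]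
  simp only [coef, mult, res, Cfsg.classInner, map_mul, map_sum, map_inv₀, map_natCast,
    Complex.conj_conj, CharInd.indFun_apply, mul_assoc, Finset.sum_mul]
  rw [← Finset.mul_sum, Finset.sum_comm]
  simp only [← mul_assoc]
  rw [Finset.sum_congr rfl fun x _ => hx x, Finset.sum_const, Finset.card_univ, nsmul_eq_mul,
    ← Nat.card_eq_fintype_card, ← mul_assoc, mul_right_comm (Nat.card L : ℂ)⁻¹,
    inv_mul_cancel₀ (Nat.cast_ne_zero.2 Nat.card_pos.ne'), one_mul]
  exact congrArg _ (Finset.sum_congr rfl fun k _ => mul_comm _ _)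

theorem exists_natCast_mult [Fintype G] {θ : F.K → ℂ} (hθ : Cfsg.IsCharacter F.K θ)
    (ξ : Cfsg.IrrCharacter G) : ∃ n : ℕ, F.mult θ (ξ : G → ℂ) = n :=
  CharCore.IsCharacter.exists_classInner_eq_natCast
    (χ := F.res (ξ : G → ℂ))
    (CharCore.isCharacter_comp (CharCore.irr_isCharacter ξ) F.ι) hθ

/-- The properties of the integer combinations of the induced characters used for `τ`. -/
theorem zspan_props [Fintype G] {α : L → ℂ}
    (hα : α ∈ Cfsg.zspan (Cfsg.inducedIrrAbove F.K ⊥)) :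
    Cfsg.IsClassFunction L α ∧ (∀ g, g ∉ F.K → α g = 0) ∧
      ∀ ξ : Cfsg.IrrCharacter G, ∃ n : ℤ, F.coef α (ξ : G → ℂ) = n := by
  induction hα using Submodule.span_induction with
  | mem φ hφ =>
    obtain ⟨θ, hθ, -, -, rfl⟩ := hφ
    refine ⟨CharInd.isClassFunction_indFun F.K θ,
      fun g hg => OddChar.indFun_eq_zero_of_notMem F.K _ hg, fun ξ => ?_⟩
    obtain ⟨n, hn⟩ := F.exists_natCast_mult (CharCore.IsIrrCharacter.isCharacter hθ) ξ
    exact ⟨n, by rw [coef_ind, hn, map_natCast, Int.cast_natCast]⟩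
  | zero => exact ⟨fun _ _ => rfl, fun _ _ => rfl, fun ξ => ⟨0, by simp [coef]⟩⟩
  | add a b _ _ ha hb =>
    refine ⟨fun g h => by simp [ha.1 g h, hb.1 g h],
      fun g hg => by simp [ha.2.1 g hg, hb.2.1 g hg], fun ξ => ?_⟩
    obtain ⟨m, hm⟩ := ha.2.2 ξ
    obtain ⟨n, hn⟩ := hb.2.2 ξ
    exact ⟨m + n, by rw [coef_add, hm, hn, Int.cast_add]⟩
  | smul z a _ ha =>
    refine ⟨fun g h => by simp [ha.1 g h], fun g hg => by simp [ha.2.1 g hg], fun ξ => ?_⟩
    obtain ⟨m, hm⟩ := ha.2.2 ξ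
    exact ⟨z * m, by rw [coef_zsmul, hm, Int.cast_mul]⟩

theorem classInner_tau [Fintype G] (M : Ideal Cfsg.AlgInt) (α : L → ℂ) (ξ : Cfsg.IrrCharacter G)
    [Decidable (ξ ∈ members M G)] :
    Cfsg.classInner (F.tau M α) (ξ : G → ℂ) =
      if ξ ∈ members M G then F.coef α (ξ : G → ℂ) else 0 :=
  CharCore.classInner_sum_irr (members M G) (fun ζ => F.coef α (ζ : G → ℂ)) ξ

/-- `τ` is an isometry on the combinations vanishing at `1`, with values vanishing at `1`. -/
theorem tau_isometry [Fintype G] (M : Ideal Cfsg.AlgInt) {A B : ℂ}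
    (hdeg : ∀ f : F.K → ℂ, ∑ ξ ∈ members M G, F.mult f (ξ : G → ℂ) * (ξ : G → ℂ) 1 =
      conj (f 1) * A)
    (hmul : ∀ f g : F.K → ℂ, ∑ ξ ∈ members M G,
      F.mult f (ξ : G → ℂ) * conj (F.mult g (ξ : G → ℂ)) =
        Cfsg.classInner (Cfsg.indFun F.K g) (Cfsg.indFun F.K f) + conj (f 1) * g 1 * B) :
    Cfsg.IsLinearIsometryOn (Cfsg.zspanOn (Cfsg.inducedIrrAbove F.K ⊥) {1}ᶜ) (F.tau M) ∧
      ∀ α ∈ Cfsg.zspanOn (Cfsg.inducedIrrAbove F.K ⊥) {1}ᶜ, F.tau M α 1 = 0 := by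
  classical
  have hone : ∀ {α : L → ℂ}, α ∈ Cfsg.zspanOn (Cfsg.inducedIrrAbove F.K ⊥) {1}ᶜ →
      α ∈ Cfsg.zspan (Cfsg.inducedIrrAbove F.K ⊥) ∧ α 1 = 0 :=
    fun h => Coherence.mem_zspanOn_one.1 h
  refine ⟨⟨fun α _ β _ => ?_, fun α _ n => ?_, fun α hα β hβ => ?_, fun α hα => ?_⟩,
    fun α hα => ?_⟩
  · simp only [tau, coef_add, add_smul, Finset.sum_add_distrib]
  · simp only [tau, coef_zsmul]
    rw [← Int.cast_smul_eq_zsmul ℂ n (∑ ξ ∈ members M G, _), Finset.smul_sum]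
    simp only [smul_smul]
  · obtain ⟨hαcl, hαsupp, -⟩ := F.zspan_props (G := G) (hone hα).1
    obtain ⟨hβcl, hβsupp, -⟩ := F.zspan_props (G := G) (hone hβ).1
    have he : (F.K.index : ℂ) ≠ 0 := Nat.cast_ne_zero.2 Subgroup.index_ne_zero_of_finite
    have h := hmul (fun k : F.K => α k) (fun k : F.K => β k)
    simp only [OneMemClass.coe_one, (hone hα).2, map_zero, zero_mul, add_zero] at h
    rw [F.indFun_restrict hαcl hαsupp, F.indFun_restrict hβcl hβsupp,
      CharCore.classInner_smul_left, CharCore.classInner_smul_right, map_natCast] at h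
    have h' := congrArg conj h
    simp only [map_sum, map_mul, map_natCast, Complex.conj_conj, CharCore.conj_classInner] at h'
    calc Cfsg.classInner (F.tau M α) (F.tau M β)
        = ∑ ξ ∈ members M G, F.coef α (ξ : G → ℂ) * conj (F.coef β (ξ : G → ℂ)) := by
          conv_lhs => arg 2; rw [tau]
          rw [CharCore.classInner_sum_right]
          refine Finset.sum_congr rfl fun ξ hξ => ?_
          rw [CharCore.classInner_smul_right, F.classInner_tau M α ξ, if_pos hξ, mul_comm]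
      _ = (F.K.index : ℂ)⁻¹ * (F.K.index : ℂ)⁻¹ *
            ∑ ξ ∈ members M G, conj (F.mult (fun k : F.K => α k) (ξ : G → ℂ)) *
              F.mult (fun k : F.K => β k) (ξ : G → ℂ) := by
          rw [Finset.mul_sum]
          refine Finset.sum_congr rfl fun ξ _ => ?_
          rw [coef_eq, coef_eq, map_mul, map_inv₀, map_natCast, Complex.conj_conj]
          ring
      _ = _ := by
          rw [h']
          field_simp
  · choose n hn using fun ξ => (F.zspan_props (G := G) (hone hα).1).2.2 ξ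
    refine Coherence.gen_sum _ _ fun ξ _ => ?_
    rw [hn ξ, Int.cast_smul_eq_zsmul]
    exact Coherence.gen_zsmul (Coherence.irr_gen ξ.2) (n ξ)
  · have h := congrArg conj (hdeg fun k : F.K => α k)
    simp only [OneMemClass.coe_one, (hone hα).2, map_zero, zero_mul, map_sum, map_mul] at h
    have hd : ∀ ξ : Cfsg.IrrCharacter G, conj ((ξ : G → ℂ) 1) = (ξ : G → ℂ) 1 := fun ξ => by
      obtain ⟨d, hd⟩ := Coherence.char_one_nat (CharCore.irr_isCharacter ξ) |>.imp fun _ => And.left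
      rw [hd, map_natCast]
    simp only [hd] at h
    simp only [tau, Finset.sum_apply, Pi.smul_apply, smul_eq_mul, coef_eq, mul_assoc,
      ← Finset.mul_sum, h, mul_zero]

/-- The characters of the kernel nontrivial on the central elements of order `p` form a coherent
family in the principal block. -/
theorem exists_family_central_of [Fintype G] [Fact p.Prime] {M : Ideal Cfsg.AlgInt}
    (hPne : (P : Subgroup G) ≠ ⊥) (hodd : Odd (Nat.card L)) {A B : ℂ}
    (hdeg : ∀ f : F.K → ℂ, ∑ ξ ∈ members M G, F.mult f (ξ : G → ℂ) * (ξ : G → ℂ) 1 =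
      conj (f 1) * A)
    (hmul : ∀ f g : F.K → ℂ, ∑ ξ ∈ members M G,
      F.mult f (ξ : G → ℂ) * conj (F.mult g (ξ : G → ℂ)) =
        Cfsg.classInner (Cfsg.indFun F.K g) (Cfsg.indFun F.K f) + conj (f 1) * g 1 * B) :
    Nonempty (F.Family M F.centSet) := by
  classical
  have hKp : IsPGroup p F.K := P.isPGroup'.of_equiv F.iso.symm
  have := hKp.isNilpotent
  have hK1 : F.K ≠ ⊥ := by
    intro e
    refine hPne (Subgroup.card_eq_one.1 ?_)
    rw [← Nat.card_congr F.iso.toEquiv, Subgroup.card_eq_one.2 e]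
  -- the central elements of order `p`
  let Z : Subgroup L :=
    { carrier := {z | z ∈ F.K ∧ (∀ k ∈ F.K, z * k = k * z) ∧ z ^ p = 1}
      one_mem' := ⟨one_mem _, fun k _ => by rw [one_mul, mul_one], one_pow _⟩
      mul_mem' := by
        rintro a b ⟨ha, hac, hap⟩ ⟨hb, hbc, hbp⟩
        refine ⟨mul_mem ha hb, fun k hk => ?_, ?_⟩
        · rw [mul_assoc, hbc k hk, ← mul_assoc, hac k hk, mul_assoc]
        · rw [Commute.mul_pow (hac b hb), hap, hbp, one_mul]
      inv_mem' := by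
        rintro a ⟨ha, hac, hap⟩
        exact ⟨inv_mem ha, fun k hk => (Commute.inv_left (hac k hk)).eq,
          by rw [inv_pow, hap, inv_one]⟩ }
  have hmemZ : ∀ z : L, z ∈ Z ↔ z ∈ F.K ∧ (∀ k ∈ F.K, z * k = k * z) ∧ z ^ p = 1 :=
    fun _ => Iff.rfl
  have hZn : Z.Normal := by
    refine ⟨fun z hz g => ?_⟩
    obtain ⟨hzK, hzc, hzp⟩ := (hmemZ z).1 hz
    refine (hmemZ _).2 ⟨F.normal.conj_mem z hzK g, fun k hk => ?_, by
      rw [conj_pow, hzp, mul_one, mul_inv_cancel]⟩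
    have hk' : g⁻¹ * k * g ∈ F.K := by simpa using F.normal.conj_mem k hk g⁻¹
    calc g * z * g⁻¹ * k = g * (z * (g⁻¹ * k * g)) * g⁻¹ := by group
      _ = g * (g⁻¹ * k * g * z) * g⁻¹ := by rw [hzc _ hk']
      _ = k * (g * z * g⁻¹) := by group
  have hZK : Z ≤ F.K := fun z hz => ((hmemZ z).1 hz).1
  have hZc : ∀ z ∈ Z, ∀ k ∈ F.K, z * k = k * z := fun z hz => ((hmemZ z).1 hz).2.1
  have hZ1 : Z ≠ ⊥ := by
    have : Nontrivial F.K := (Subgroup.nontrivial_iff_ne_bot _).2 hK1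
    have := hKp.center_nontrivial
    have hdvd : p ∣ Nat.card (Subgroup.center F.K) := by
      obtain ⟨n, hn⟩ := IsPGroup.iff_card.1 (hKp.to_subgroup (Subgroup.center F.K))
      have h1 : 1 < Nat.card (Subgroup.center F.K) := Finite.one_lt_card
      rcases n with _ | n
      · rw [hn, pow_zero] at h1; exact absurd h1 (lt_irrefl _)
      · exact hn ▸ dvd_pow_self p n.succ_ne_zero
    obtain ⟨z, hz⟩ := exists_prime_orderOf_dvd_card' (G := Subgroup.center F.K) p hdvd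
    intro e
    have hzo : orderOf ((z : F.K) : L) = p := by
      rw [Subgroup.orderOf_coe, Subgroup.orderOf_coe, hz]
    have hmem : ((z : F.K) : L) ∈ Z :=
      (hmemZ _).2 ⟨(z : F.K).2, fun k hk => congrArg Subtype.val
        (Subgroup.mem_center_iff.1 z.2 ⟨k, hk⟩).symm, orderOf_dvd_iff_pow_eq_one.1 (dvd_of_eq hzo)⟩
    rw [e, Subgroup.mem_bot] at hmem
    rw [hmem, orderOf_one] at hzo
    exact (Fact.out : p.Prime).ne_one hzo.symm
  -- the sequence and the isometry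
  have hC := F.centralizer_le
  set S := Cfsg.inducedIrrAbove F.K (⊥ : Subgroup L) with hSdef
  have hsolv : Group.IsSolvable F.K := inferInstance
  have hSne : S.Nonempty := by
    obtain ⟨θ, hθ1, hθ⟩ := (Coherence.exists_linear F.K hsolv (⊥ : Subgroup L)
      (fun h => hK1 (le_bot_iff.1 h)))
    exact ⟨_, (Coherence.mem_seq_iff F.K).2 ⟨θ, hθ1, rfl⟩⟩
  obtain ⟨hiso, hiso1⟩ := F.tau_isometry M hdeg hmul
  obtain ⟨R, hR⟩ := S1514.result S hSne (fun χ h => Coherence.frob_seq_irr F.K hC h)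
    (fun χ h => ⟨Coherence.seq_conj F.K h,
      Coherence.frob_seq_conj_ne F.K hodd F.ne_top hC h⟩) (F.tau M) hiso hiso1
  obtain ⟨-, -, τ₁, hτ₁, hagree⟩ := S1522.result F.K hsolv (F.tau M) R hR hodd inferInstance
    (Coherence.frob_commutator_lt F.K hK1) (lt_top_iff_ne_top.2 F.ne_top)
    (fun k hk hkN x h => Coherence.frob_quot F.K hC ⁅F.K, F.K⁆
      (Subgroup.commutator_le_self F.K) hk hkN x h) Z hZ1 hZK hZc
    (fun χ h => Coherence.frob_seq_irr F.K hC h.1)
  set T := S \ Cfsg.inducedIrrAbove F.K Z with hT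
  -- the members of `centSet` induce to members of `T`
  have hX : ∀ θ ∈ F.centSet, (θ : F.K → ℂ) ≠ (fun _ => 1) ∧
      Cfsg.indFun F.K (θ : F.K → ℂ) ∈ T := by
    rintro θ ⟨z, hzc, hzp, hz⟩
    have hne : (θ : F.K → ℂ) ≠ fun _ => 1 := fun e => hz (by rw [e])
    refine ⟨hne, ⟨θ, θ.2, hne, fun a ha => ?_, rfl⟩, fun h => hz ?_⟩
    · rw [Subgroup.mem_bot] at ha
      rw [show a = 1 from Subtype.ext ha]
    · obtain ⟨ψ, hψ, e⟩ := (Coherence.mem_seq_iff F.K).1 h
      obtain ⟨g, rfl⟩ := (Coherence.ind_eq_iff F.K θ ψ).1 e.symm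
      exact ((Coherence.mem_irrNP F.K).1 (Coherence.conjIrr_mem F.K hψ g)).2 z
        ((hmemZ _).2 ⟨z.2, fun k hk => congrArg Subtype.val
          (Subgroup.mem_center_iff.1 hzc ⟨k, hk⟩).symm, congrArg Subtype.val hzp⟩)
  -- the signed irreducible images
  have : Nonempty (Cfsg.IrrCharacter G) := ⟨⟨_, CharCore.isIrrCharacter_one⟩⟩
  have hτT : ∀ θ ∈ F.centSet, ∃ (ε : ℤ) (χ : Cfsg.IrrCharacter G), (ε = 1 ∨ ε = -1) ∧
      τ₁ (Cfsg.indFun F.K (θ : F.K → ℂ)) = (ε : ℂ) • (χ : G → ℂ) := by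
    intro θ hθ
    have hm := Coherence.zspan_subset (hX θ hθ).2
    refine OddChar.signed_exists_sign (OddChar.isSignedIrr_of_norm_one (hτ₁.2.2.2 _ hm) ?_)
    rw [hτ₁.2.2.1 _ hm _ hm]
    exact CharCore.classInner_irr_self ⟨_, Coherence.frob_seq_irr F.K hC (hX θ hθ).2.1⟩
  choose! eps chi heps hchi using hτT
  -- degrees
  have hθdeg : ∀ θ : Cfsg.IrrCharacter F.K, ∃ d : ℕ, 0 < d ∧ (θ : F.K → ℂ) 1 = d := by
    intro θ
    obtain ⟨d, hd, -⟩ := Coherence.char_one_nat (CharCore.irr_isCharacter θ)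
    refine ⟨d, Nat.pos_of_ne_zero ?_, hd⟩
    rintro rfl
    exact CharCore.irr_apply_one_ne_zero θ (by rw [hd, Nat.cast_zero])
  choose d hd0 hd using hθdeg
  have hχdeg : ∀ χ : Cfsg.IrrCharacter G, ∃ D : ℕ, 0 < D ∧ (χ : G → ℂ) 1 = D := by
    intro χ
    obtain ⟨D, hD, -⟩ := Coherence.char_one_nat (CharCore.irr_isCharacter χ)
    refine ⟨D, Nat.pos_of_ne_zero ?_, hD⟩
    rintro rfl
    exact CharCore.irr_apply_one_ne_zero χ (by rw [hD, Nat.cast_zero])
  choose D hD0 hD using hχdeg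
  -- the difference of two members
  have hrel : ∀ θ ∈ F.centSet, ∀ θ' ∈ F.centSet, ∀ ξ : Cfsg.IrrCharacter G,
      (if ξ ∈ members M G then
        (d θ' : ℂ) * F.mult (θ : F.K → ℂ) (ξ : G → ℂ) -
          (d θ : ℂ) * F.mult (θ' : F.K → ℂ) (ξ : G → ℂ) else 0) =
      (d θ' : ℂ) * ((eps θ : ℂ) * if chi θ = ξ then 1 else 0) -
        (d θ : ℂ) * ((eps θ' : ℂ) * if chi θ' = ξ then 1 else 0) ∧
      (d θ' : ℂ) * ((eps θ : ℂ) * (D (chi θ) : ℂ)) =
        (d θ : ℂ) * ((eps θ' : ℂ) * (D (chi θ') : ℂ)) := by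
    intro θ hθ θ' hθ' ξ
    set φ := Cfsg.indFun F.K (θ : F.K → ℂ) with hφ
    set ψ := Cfsg.indFun F.K (θ' : F.K → ℂ) with hψ
    have hm := Coherence.zspan_subset (hX θ hθ).2
    have hm' := Coherence.zspan_subset (hX θ' hθ').2
    set β := (d θ' : ℤ) • φ + (-(d θ : ℤ)) • ψ with hβ
    have hβmem : β ∈ Cfsg.zspanOn T {1}ᶜ := Coherence.mem_zspanOn_one.2
      ⟨Coherence.zspan_add (Coherence.zspan_zsmul _ hm) (Coherence.zspan_zsmul _ hm'), by
        simp only [hβ, hφ, hψ, Pi.add_apply, zsmul_eq_mul, Pi.mul_apply, Pi.neg_apply,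
          Pi.natCast_apply,
          CharInd.indFun_apply_one, hd, Int.cast_neg, Int.cast_natCast]
        ring⟩
    have hτβ : τ₁ β = ((d θ' : ℂ) * (eps θ : ℂ)) • (chi θ : G → ℂ) -
        ((d θ : ℂ) * (eps θ' : ℂ)) • (chi θ' : G → ℂ) := by
      rw [hβ, hτ₁.1 _ (Coherence.zspan_zsmul _ hm) _ (Coherence.zspan_zsmul _ hm'),
        hτ₁.2.1 _ hm, hτ₁.2.1 _ hm', hchi θ hθ, hchi θ' hθ']
      simp only [← Int.cast_smul_eq_zsmul ℂ, Int.cast_neg, Int.cast_natCast, smul_smul, neg_mul,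
        neg_smul, ← sub_eq_add_neg]
    refine ⟨?_, ?_⟩
    · have h := congrArg (fun f => Cfsg.classInner f (ξ : G → ℂ))
        ((hagree β hβmem).symm.trans hτβ)
      simp only [classInner_tau, CharCore.classInner_sub_left, CharCore.classInner_smul_left,
        CharCore.classInner_irr] at h
      have hc : F.coef β (ξ : G → ℂ) = (d θ' : ℂ) * F.mult (θ : F.K → ℂ) (ξ : G → ℂ) -
          (d θ : ℂ) * F.mult (θ' : F.K → ℂ) (ξ : G → ℂ) := by
        obtain ⟨m, hm⟩ := F.exists_natCast_mult (CharCore.irr_isCharacter θ) ξ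
        obtain ⟨m', hm'⟩ := F.exists_natCast_mult (CharCore.irr_isCharacter θ') ξ
        simp only [hβ, coef_add, coef_zsmul, hφ, hψ, coef_ind, hm, hm', map_natCast,
          Int.cast_neg, Int.cast_natCast]
        ring
      rw [hc] at h
      rw [h]
      ring
    · have h := congrFun hτβ 1
      rw [hagree β hβmem, hiso1 β (Coherence.zspanOn_mono Set.sdiff_subset _ hβmem)] at h
      simp only [Pi.sub_apply, Pi.smul_apply, smul_eq_mul, hD] at h
      linear_combination -h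
  have hepseq : ∀ θ ∈ F.centSet, ∀ θ' ∈ F.centSet, eps θ = eps θ' := by
    intro θ hθ θ' hθ'
    have h := (hrel θ hθ θ' hθ' (chi θ)).2
    have h' : (d θ' : ℤ) * (eps θ * D (chi θ)) = (d θ : ℤ) * (eps θ' * D (chi θ')) := by
      exact_mod_cast h
    have p1 : (0 : ℤ) < (d θ' : ℤ) * D (chi θ) := by
      exact_mod_cast Nat.mul_pos (hd0 θ') (hD0 (chi θ))
    have p2 : (0 : ℤ) < (d θ : ℤ) * D (chi θ') := by
      exact_mod_cast Nat.mul_pos (hd0 θ) (hD0 (chi θ'))
    rcases heps θ hθ with e | e <;> rcases heps θ' hθ' with e' | e' <;> rw [e, e'] at h' ⊢ <;>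
      linarith
  have hinj : ∀ θ ∈ F.centSet, ∀ θ' ∈ F.centSet, (chi θ = chi θ' ↔
      Cfsg.indFun F.K (θ : F.K → ℂ) = Cfsg.indFun F.K (θ' : F.K → ℂ)) := by
    intro θ hθ θ' hθ'
    refine ⟨fun e => ?_, fun e => ?_⟩
    · by_contra hne
      have h : Cfsg.classInner (τ₁ (Cfsg.indFun F.K (θ : F.K → ℂ)))
          (τ₁ (Cfsg.indFun F.K (θ' : F.K → ℂ))) = 0 := by
        rw [hτ₁.2.2.1 _ (Coherence.zspan_subset (hX θ hθ).2) _
          (Coherence.zspan_subset (hX θ' hθ').2)]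
        exact hR.orthogonal _ (hX θ hθ).2.1 _ (hX θ' hθ').2.1 hne
      rw [hchi θ hθ, hchi θ' hθ', e, CharCore.classInner_smul_left,
        CharCore.classInner_smul_right, CharCore.classInner_irr_self] at h
      rcases heps θ hθ with e1 | e1 <;> rcases heps θ' hθ' with e2 | e2 <;>
        simp [e1, e2] at h
    · have h := congrArg τ₁ e
      rw [hchi θ hθ, hchi θ' hθ', hepseq θ hθ θ' hθ'] at h
      have hne : (eps θ' : ℂ) ≠ 0 := by
        rcases heps θ' hθ' with e1 | e1 <;> simp [e1]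
      exact Subtype.ext (smul_right_injective (G → ℂ) hne h)
  -- complex conjugation gives a second member
  have htwo : ∀ θ ∈ F.centSet, ∃ θ' ∈ F.centSet,
      Cfsg.indFun F.K (θ : F.K → ℂ) ≠ Cfsg.indFun F.K (θ' : F.K → ℂ) := by
    intro θ hθ
    obtain ⟨z, hzc, hzp, hz⟩ := hθ
    refine ⟨⟨Cfsg.conjFun (θ : F.K → ℂ), CharCore.isIrrCharacter_star θ.2⟩,
      ⟨z, hzc, hzp, fun e => hz ?_⟩, fun e => ?_⟩
    · exact (starRingEnd ℂ).injective e
    · refine Coherence.frob_seq_conj_ne F.K hodd F.ne_top hC (hX θ ⟨z, hzc, hzp, hz⟩).2.1 ?_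
      rw [Coherence.conjFun_indFun]
      exact e.symm
  have hmem : ∀ θ ∈ F.centSet, chi θ ∈ members M G := by
    intro θ hθ
    by_contra hn
    obtain ⟨θ', hθ', hne⟩ := htwo θ hθ
    have h := (hrel θ hθ θ' hθ' (chi θ)).1
    rw [if_neg hn, if_pos rfl, if_neg fun e => hne ((hinj θ hθ θ' hθ').1 e.symm)] at h
    have h0 : (d θ' : ℂ) * (eps θ : ℂ) = 0 := by linear_combination -h
    rcases heps θ hθ with e | e <;> simp [e, (hd0 θ').ne'] at h0
  obtain ⟨θ₀, hθ₀⟩ : F.centSet.Nonempty := by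
    obtain ⟨z, hz, hz1⟩ := (Subgroup.bot_or_exists_ne_one Z).resolve_left hZ1
    obtain ⟨hzK, hzc, hzp⟩ := (hmemZ z).1 hz
    by_contra hne
    rw [Set.not_nonempty_iff_eq_empty] at hne
    have hall : ∀ θ : Cfsg.IrrCharacter F.K,
        (θ : F.K → ℂ) ⟨z, hzK⟩ = (θ : F.K → ℂ) 1 := by
      intro θ
      by_contra hθ
      exact (hne ▸ (⟨⟨z, hzK⟩, Subgroup.mem_center_iff.2 fun k =>
        Subtype.ext (hzc k k.2).symm, Subtype.ext hzp, hθ⟩ : θ ∈ F.centSet) : θ ∈ (∅ : Set _))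
    obtain ⟨c, hc⟩ := isConj_iff.1 ((CharCore.isConj_iff_forall_irr (⟨z, hzK⟩ : F.K) 1).2 hall).symm
    rw [mul_one, mul_inv_cancel] at hc
    exact hz1 (congrArg Subtype.val hc).symm
  refine ⟨{ ε := eps θ₀, ε_eq := heps θ₀ hθ₀, chi := chi,
            two := ⟨θ₀, hθ₀, htwo θ₀ hθ₀⟩, mem := hmem, ne_one := ?_, inj := hinj,
            rel := ?_, deg := ?_ }⟩
  · intro θ hθ e
    obtain ⟨θ', hθ', hne⟩ := htwo θ hθ
    have h := (hrel θ hθ θ' hθ' (chi θ)).1
    have hzero : ∀ η ∈ F.centSet, F.mult (η : F.K → ℂ) (chi θ : G → ℂ) = 0 := fun η hη => by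
      rw [e]
      exact CharCore.classInner_irr_of_ne (χ := ⟨fun _ => 1, CharCore.isIrrCharacter_one⟩)
        (ψ := η) fun e' => (hX η hη).1 (congrArg Subtype.val e').symm
    rw [if_pos (hmem θ hθ), hzero θ hθ, hzero θ' hθ', if_pos rfl,
      if_neg fun e' => hne ((hinj θ hθ θ' hθ').1 e'.symm)] at h
    have h0 : (d θ' : ℂ) * (eps θ : ℂ) = 0 := by linear_combination -h
    rcases heps θ hθ with e1 | e1 <;> simp [e1, (hd0 θ').ne'] at h0
  · intro θ hθ θ' hθ' ξ hξ
    have h := (hrel θ hθ θ' hθ' ξ).1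
    rw [if_pos hξ, hepseq θ hθ θ₀ hθ₀, hepseq θ' hθ' θ₀ hθ₀] at h
    rw [hd, hd, h]
    simp only [eq_comm (a := ξ)]
    ring
  · intro θ hθ θ' hθ'
    have h := (hrel θ hθ θ' hθ' (chi θ)).2
    rw [hepseq θ hθ θ' hθ', ← mul_assoc, ← mul_assoc, mul_comm (d θ' : ℂ),
      mul_comm (d θ : ℂ), mul_assoc, mul_assoc] at h
    rw [hd, hd, hD, hD]
    exact mul_left_cancel₀ (by rcases heps θ' hθ' with e | e <;> simp [e]) h

/-- The coherent family of the characters nontrivial on the centre of the kernel. -/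
theorem exists_family_central [Fintype G] [Fact p.Prime] {M : Ideal Cfsg.AlgInt}
    (hK : Kernels P) (hM : Cfsg.IsPModular p M) (hPne : (P : Subgroup G) ≠ ⊥)
    (hodd : Odd (Nat.card L)) : Nonempty (F.Family M F.centSet) :=
  F.exists_family_central_of hPne hodd
    (fun f => by rw [F.sum_mult_degree hK hM f, mul_div_assoc])
    (fun f g => F.sum_mult_mul hK hM f g)

end Frame

end Cfsg.Agent.PComp40
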