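import Cfsg.Statements.S3297
import Cfsg.Agent.Lib.BlocksCore.CyclicPrincipal
import Cfsg.Agent.Lib.BlocksCore.SectionKernel
import Cfsg.Agent.Lib.BlocksCore.SecondMain

/-!
# Local fusion, `p`-nilpotent centralizers and `p`-solvable pairs: definitions

The vocabulary of the proof of S3297.
-/

set_option autoImplicit false

namespace Cfsg.Agent.PComp40

open BlocksDefect BlocksCore.CyclicPrincipal
open scoped ComplexConjugate

universe u

variable {G : Type u} [Group G] {p : ℕ}

/-- The hypotheses of S3297 other than the last one. -/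
structure Hyp (P : Sylow p G) : Prop where
  core : Cfsg.pPrimeCore p G = ⊥
  not_normal : ¬ (P : Subgroup G).Normal
  fusion : ∀ x ∈ (P : Subgroup G), ∀ y ∈ (P : Subgroup G), (∃ g : G, g * x * g⁻¹ = y) →
    ∃ n ∈ Subgroup.normalizer ((P : Subgroup G) : Set G), n * x * n⁻¹ = y
  cent : ∀ x ∈ (P : Subgroup G), orderOf x = p →
    Cfsg.HasNormalPComplement p ↥(Subgroup.centralizer ({x} : Set G))
  psolv : ∀ x y : G, orderOf x = p → orderOf y = p →
    Cfsg.IsPSolvable p ↥(Subgroup.closure ({x, y} : Set G))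

/-- An element of order `p` in the centre of `P`. -/
def IsV (P : Sylow p G) (x : G) : Prop :=
  x ∈ (P : Subgroup G) ∧ orderOf x = p ∧ ∀ y ∈ (P : Subgroup G), x * y = y * x

/-- Every nontrivial element of `P` has in its centralizer a normal subgroup of order prime to `p`
containing the `p`-regular elements, of index the order of the centralizer in `P`. -/
def Kernels (P : Sylow p G) : Prop :=
  ∀ x ∈ (P : Subgroup G), x ≠ 1 → ∃ K : Subgroup (Subgroup.centralizer ({x} : Set G)),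
    K.Normal ∧ ¬ p ∣ Nat.card K ∧ (∀ y, ¬ p ∣ orderOf y → y ∈ K) ∧
      K.index = Nat.card ↥((P : Subgroup G) ⊓ Subgroup.centralizer ({x} : Set G))

/-- A Frobenius group with kernel isomorphic to `P` that carries the fusion of `P` in `G`. -/
structure Frame (P : Sylow p G) (L : Type u) [Group L] where
  K : Subgroup L
  normal : K.Normal
  iso : K ≃* (P : Subgroup G)
  ne_top : K ≠ ⊤
  centralizer_le : ∀ n ∈ K, n ≠ 1 → Subgroup.centralizer ({n} : Set L) ≤ K
  conj_iff : ∀ a b : K,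
    IsConj ((iso a : (P : Subgroup G)) : G) ((iso b : (P : Subgroup G)) : G) ↔
      IsConj (a : L) (b : L)
  coprime : ¬ p ∣ K.index

namespace Frame

variable {P : Sylow p G} {L : Type u} [Group L] (F : Frame P L)

instance instNormal : F.K.Normal := F.normal

noncomputable instance instFintypeK [Fintype L] : Fintype F.K := Fintype.ofFinite _

/-- The kernel of the frame as a subgroup of `G`. -/
def ι : F.K →* G := (P : Subgroup G).subtype.comp F.iso.toMonoidHom

theorem ι_apply (k : F.K) : F.ι k = ((F.iso k : (P : Subgroup G)) : G) := rfl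

theorem ι_mem (k : F.K) : F.ι k ∈ (P : Subgroup G) := (F.iso k).2

theorem ι_injective : Function.Injective F.ι := fun a b h =>
  F.iso.injective (Subtype.ext h)

theorem exists_ι_eq {x : G} (hx : x ∈ (P : Subgroup G)) : ∃ k : F.K, F.ι k = x :=
  ⟨F.iso.symm ⟨x, hx⟩, by rw [ι_apply, MulEquiv.apply_symm_apply]⟩

theorem ι_ne_one {k : F.K} (hk : k ≠ 1) : F.ι k ≠ 1 := fun h =>
  hk (F.ι_injective (h.trans F.ι.map_one.symm))

/-- A function on `G` read on the kernel of the frame. -/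
def res (f : G → ℂ) : F.K → ℂ := fun k => f (F.ι k)

/-- The multiplicity of `θ` in the restriction of `f`. -/
noncomputable def mult [Fintype L] (θ : F.K → ℂ) (f : G → ℂ) : ℂ :=
  Cfsg.classInner (F.res f) θ

/-- The nonprincipal linear characters of the kernel. -/
def linSet : Set (Cfsg.IrrCharacter F.K) :=
  {θ | (θ : F.K → ℂ) 1 = 1 ∧ (θ : F.K → ℂ) ≠ fun _ => 1}

/-- The characters of the kernel nontrivial on the elements of order `p` of its centre. -/
def centSet : Set (Cfsg.IrrCharacter F.K) :=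
  {θ | ∃ z : F.K, z ∈ Subgroup.center F.K ∧ z ^ p = 1 ∧ (θ : F.K → ℂ) z ≠ (θ : F.K → ℂ) 1}

open scoped Classical in
/-- A coherent family of members of the principal block belonging to the characters in `X`. -/
structure Family [Fintype G] [Fintype L] (M : Ideal Cfsg.AlgInt)
    (X : Set (Cfsg.IrrCharacter F.K)) where
  ε : ℤ
  ε_eq : ε = 1 ∨ ε = -1
  chi : Cfsg.IrrCharacter F.K → Cfsg.IrrCharacter G
  two : ∃ θ ∈ X, ∃ θ' ∈ X,
    Cfsg.indFun F.K (θ : F.K → ℂ) ≠ Cfsg.indFun F.K (θ' : F.K → ℂ)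
  mem : ∀ θ ∈ X, chi θ ∈ members M G
  ne_one : ∀ θ ∈ X, chi θ ≠ oneIrr G
  inj : ∀ θ ∈ X, ∀ θ' ∈ X,
    (chi θ = chi θ' ↔ Cfsg.indFun F.K (θ : F.K → ℂ) = Cfsg.indFun F.K (θ' : F.K → ℂ))
  rel : ∀ θ ∈ X, ∀ θ' ∈ X, ∀ ξ ∈ members M G,
    (θ' : F.K → ℂ) 1 * F.mult (θ : F.K → ℂ) (ξ : G → ℂ) -
        (θ : F.K → ℂ) 1 * F.mult (θ' : F.K → ℂ) (ξ : G → ℂ) =
      (ε : ℂ) * ((θ' : F.K → ℂ) 1 * (if ξ = chi θ then 1 else 0) -
        (θ : F.K → ℂ) 1 * (if ξ = chi θ' then 1 else 0))
  deg : ∀ θ ∈ X, ∀ θ' ∈ X,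
    (θ' : F.K → ℂ) 1 * (chi θ : G → ℂ) 1 = (θ : F.K → ℂ) 1 * (chi θ' : G → ℂ) 1

end Frame

/-- The restriction used at `p = 2`: the involutions of `P` are central and there are three. -/
def SmallRank (P : Sylow p G) : Prop :=
  (∀ x ∈ (P : Subgroup G), orderOf x = p → IsV P x) ∧
    Nat.card {x : G // x ∈ (P : Subgroup G) ∧ x ^ p = 1} = 4

end Cfsg.Agent.PComp40
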