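import Cfsg.Agent.PComp40.Blocks
import Cfsg.Agent.Coherence.Fixed
import Cfsg.Agent.Lib.Zassenhaus.GramStar

/-!
# The coherent family of the linear characters of the kernel

The multiplicity vectors of the nonprincipal linear characters have squared length `1 + c` and
mutual products `c`, so they are a fixed vector plus signed unit vectors.
-/

set_option autoImplicit false
set_option linter.unusedSectionVars false

namespace Cfsg.Agent.PComp40

open BlocksDefect BlocksCore BlocksCore.CyclicPrincipal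
open scoped ComplexConjugate Classical

universe u

variable {G : Type u} [Group G] [Fintype G] {p : ℕ} [hpf : Fact p.Prime] {M : Ideal Cfsg.AlgInt}
  {P : Sylow p G}

namespace Frame

variable {L : Type u} [Group L] [Fintype L] (F : Frame P L)

/-- A nonprincipal irreducible character of the kernel induces irreducibly. -/
theorem indFun_irr {θ : Cfsg.IrrCharacter F.K} (hne : (θ : F.K → ℂ) ≠ fun _ => 1) :
    Cfsg.IsIrrCharacter L (Cfsg.indFun F.K (θ : F.K → ℂ)) :=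
  Coherence.indFun_irr_of_stabilizer F.K θ.2 fun _ hx =>
    Coherence.fixed_mem_of_centralizer_le F.K F.centralizer_le θ.2 hne hx

/-- Nonprincipal irreducible characters of the kernel induce to orthonormal functions. -/
theorem classInner_indFun {θ θ' : Cfsg.IrrCharacter F.K} (h : (θ : F.K → ℂ) ≠ fun _ => 1)
    (h' : (θ' : F.K → ℂ) ≠ fun _ => 1) :
    Cfsg.classInner (Cfsg.indFun F.K (θ : F.K → ℂ)) (Cfsg.indFun F.K (θ' : F.K → ℂ)) =
      if Cfsg.indFun F.K (θ : F.K → ℂ) = Cfsg.indFun F.K (θ' : F.K → ℂ) then 1 else 0 :=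
  (CharCore.classInner_irr ⟨_, F.indFun_irr h⟩ ⟨_, F.indFun_irr h'⟩).trans
    (if_congr Subtype.ext_iff rfl rfl)

/-- If the nonprincipal linear characters fall into at least two orbits, they carry a coherent
family in the principal block. -/
theorem exists_family_linear (hK : Kernels P) (hM : IsPModular p M)
    (two : ∃ θ ∈ F.linSet, ∃ θ' ∈ F.linSet,
      Cfsg.indFun F.K (θ : F.K → ℂ) ≠ Cfsg.indFun F.K (θ' : F.K → ℂ)) :
    Nonempty (F.Family M F.linSet) := by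
  choose n hn using fun (θ : Cfsg.IrrCharacter F.K) (r : {ξ // ξ ∈ members M G}) =>
    F.exists_nat_mult θ r.1
  obtain ⟨θ₀, hθ₀, θ₁, hθ₁, h01⟩ := two
  set C : ℂ := (∑ ξ ∈ members M G, (ξ : G → ℂ) 1 ^ 2) / (Nat.card (P : Subgroup G) : ℂ) ^ 2 -
    (F.K.index : ℂ) / (Nat.card (P : Subgroup G) : ℂ) with hC
  have hgramC : ∀ θ ∈ F.linSet, ∀ θ' ∈ F.linSet, ((∑ r, n θ r * n θ' r : ℕ) : ℂ) =
      (if Cfsg.indFun F.K (θ : F.K → ℂ) = Cfsg.indFun F.K (θ' : F.K → ℂ) then 1 else 0) + C := by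
    intro θ hθ θ' hθ'
    have h := F.sum_mult_mul hK hM (θ : F.K → ℂ) (θ' : F.K → ℂ)
    rw [hθ.1, hθ'.1, F.classInner_indFun hθ'.2 hθ.2, if_congr eq_comm rfl rfl, map_one, mul_one,
      one_mul, ← hC] at h
    rw [← h, ← Finset.sum_coe_sort (members M G)]
    push_cast
    exact Finset.sum_congr rfl fun r _ => by rw [← hn, ← hn, hn θ' r, map_natCast]
  set c := ∑ r, n θ₀ r * n θ₁ r with hc
  have hCc : C = c := by
    have h := hgramC θ₀ hθ₀ θ₁ hθ₁
    rw [if_neg h01, zero_add] at h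
    exact h.symm
  have hgram : ∀ θ ∈ F.linSet, ∀ θ' ∈ F.linSet, ∑ r, n θ r * n θ' r =
      (if Cfsg.indFun F.K (θ : F.K → ℂ) = Cfsg.indFun F.K (θ' : F.K → ℂ) then 1 else 0) + c := by
    intro θ hθ θ' hθ'
    have h := hgramC θ hθ θ' hθ'
    rw [hCc] at h
    apply Nat.cast_injective (R := ℂ)
    push_cast [apply_ite (Nat.cast : ℕ → ℂ)]
    push_cast at h
    exact h
  have hiff : ∀ θ ∈ F.linSet, ∀ θ' ∈ F.linSet, n θ = n θ' ↔
      Cfsg.indFun F.K (θ : F.K → ℂ) = Cfsg.indFun F.K (θ' : F.K → ℂ) := by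
    intro θ hθ θ' hθ'
    refine ⟨fun e => ?_, fun e => funext fun r => Nat.cast_injective (R := ℂ) ?_⟩
    · by_contra hne
      have h := hgram θ hθ θ' hθ'
      rw [← e, hgram θ hθ θ hθ, if_neg hne, if_pos rfl] at h
      omega
    · rw [← hn, ← hn]
      exact F.mult_congr (irr_class r.1) e
  set V := (Finset.univ.filter (· ∈ F.linSet)).image n
  have hmemV : ∀ θ ∈ F.linSet, n θ ∈ V := fun θ hθ =>
    Finset.mem_image_of_mem n (Finset.mem_filter.2 ⟨Finset.mem_univ _, hθ⟩)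
  have hofV : ∀ v ∈ V, ∃ θ ∈ F.linSet, n θ = v := fun v hv => by
    obtain ⟨θ, hθ, rfl⟩ := Finset.mem_image.1 hv
    exact ⟨θ, (Finset.mem_filter.1 hθ).2, rfl⟩
  obtain ⟨ε, γ, t, X, hε, hX, -, -, hrep⟩ := ZassNormal.Gram.exists_signed_vector V (c := c)
    (fun v hv => by
      obtain ⟨θ, hθ, rfl⟩ := hofV v hv
      rw [hgram θ hθ θ hθ, if_pos rfl])
    (fun v hv w hw hvw => by
      obtain ⟨θ, hθ, rfl⟩ := hofV v hv
      obtain ⟨θ', hθ', rfl⟩ := hofV w hw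
      rw [hgram θ hθ θ' hθ', if_neg fun e => hvw ((hiff θ hθ θ' hθ').2 e), zero_add])
    (Finset.one_lt_card.2 ⟨n θ₀, hmemV θ₀ hθ₀, n θ₁, hmemV θ₁ hθ₁,
      fun e => h01 ((hiff θ₀ hθ₀ θ₁ hθ₁).1 e)⟩)
  let chi : Cfsg.IrrCharacter F.K → Cfsg.IrrCharacter G := fun θ => (X (n θ)).1
  have hrel : ∀ θ ∈ F.linSet, ∀ θ' ∈ F.linSet, ∀ ξ ∈ members M G,
      F.mult (θ : F.K → ℂ) (ξ : G → ℂ) - F.mult (θ' : F.K → ℂ) (ξ : G → ℂ) =
        (ε : ℂ) * ((if ξ = chi θ then 1 else 0) - (if ξ = chi θ' then 1 else 0)) := by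
    intro θ hθ θ' hθ' ξ hξ
    have key : ∀ φ ∈ F.linSet, F.mult (φ : F.K → ℂ) (ξ : G → ℂ) =
        (γ ⟨ξ, hξ⟩ : ℂ) + (ε : ℂ) * if ξ = chi φ then 1 else 0 := by
      intro φ hφ
      rw [hn φ ⟨ξ, hξ⟩, ← Int.cast_natCast, hrep _ (hmemV φ hφ) ⟨ξ, hξ⟩, Int.cast_add,
        apply_ite (Int.cast : ℤ → ℂ), Int.cast_zero, mul_ite, mul_one, mul_zero]
      exact congrArg _ (if_congr Subtype.ext_iff rfl rfl)
    rw [key θ hθ, key θ' hθ']
    ring
  have hinj : ∀ θ ∈ F.linSet, ∀ θ' ∈ F.linSet, chi θ = chi θ' ↔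
      Cfsg.indFun F.K (θ : F.K → ℂ) = Cfsg.indFun F.K (θ' : F.K → ℂ) := by
    intro θ hθ θ' hθ'
    rw [← hiff θ hθ θ' hθ']
    exact ⟨fun e => hX (hmemV θ hθ) (hmemV θ' hθ') (Subtype.ext e),
      fun e => congrArg (fun v => (X v).1) e⟩
  have hεne : (ε : ℂ) ≠ 0 := by rcases hε with rfl | rfl <;> norm_num
  refine ⟨{ ε := ε
            ε_eq := hε
            chi := chi
            two := ⟨θ₀, hθ₀, θ₁, hθ₁, h01⟩
            mem := fun θ _ => (X (n θ)).2
            ne_one := ?_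
            inj := hinj
            rel := ?_
            deg := ?_ }⟩
  · intro θ hθ e
    obtain ⟨θ', hθ', hne⟩ : ∃ θ' ∈ F.linSet,
        Cfsg.indFun F.K (θ : F.K → ℂ) ≠ Cfsg.indFun F.K (θ' : F.K → ℂ) := by
      by_contra! hall
      exact h01 ((hall θ₀ hθ₀).symm.trans (hall θ₁ hθ₁))
    have h := hrel θ hθ θ' hθ' (chi θ) (X (n θ)).2
    have h0 : ∀ φ ∈ F.linSet, F.mult (φ : F.K → ℂ) (chi θ : G → ℂ) = 0 := fun φ hφ => by
      rw [e, F.mult_one, if_neg fun e' => hφ.2 (by rw [e']; rfl)]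
    rw [h0 θ hθ, h0 θ' hθ', if_pos rfl, if_neg fun e' => hne ((hinj θ hθ θ' hθ').1 e'), sub_zero,
      sub_zero, mul_one] at h
    exact hεne h.symm
  · intro θ hθ θ' hθ' ξ hξ
    rw [hθ.1, hθ'.1, one_mul, one_mul, one_mul, one_mul]
    exact hrel θ hθ θ' hθ' ξ hξ
  · intro θ hθ θ' hθ'
    have key : ∑ ξ ∈ members M G,
        (F.mult (θ : F.K → ℂ) (ξ : G → ℂ) - F.mult (θ' : F.K → ℂ) (ξ : G → ℂ)) *
          (ξ : G → ℂ) 1 = 0 := by
      simp only [sub_mul, Finset.sum_sub_distrib, F.sum_mult_degree hK hM, hθ.1, hθ'.1, sub_self]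
    rw [Finset.sum_congr rfl fun ξ hξ => by rw [hrel θ hθ θ' hθ' ξ hξ, mul_assoc],
      ← Finset.mul_sum] at key
    have key' := (mul_eq_zero.1 key).resolve_left hεne
    simp only [sub_mul, ite_mul, one_mul, zero_mul, Finset.sum_sub_distrib, Finset.sum_ite_eq',
      if_pos (X (n θ)).2, if_pos (X (n θ')).2, sub_eq_zero, chi] at key'
    rw [hθ.1, hθ'.1, one_mul, one_mul]
    exact key'

end Frame

end Cfsg.Agent.PComp40
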