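import Cfsg.Agent.PComp40.Group.Basic
import Cfsg.Agent.PComp40.Group.Normalizer
import Cfsg.Agent.PComp40.Group.Product

/-!
# The group theory of S3297: all parts
-/
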