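import Cfsg.Agent.PComp40.Defs
import Cfsg.Agent.CharDeep.Small.PrimeDegrees

/-!
# Characters of the simple group
-/

set_option autoImplicit false

namespace Cfsg.Agent.PComp40

open BlocksDefect

universe u

variable {G : Type u} [Group G] {p : ℕ}

theorem Hyp.exists_noncomm {P : Sylow p G} (h : Hyp P) : ∃ a b : G, a * b ≠ b * a := by
  by_contra hab
  push Not at hab
  refine h.not_normal ⟨fun a ha g => ?_⟩
  rwa [hab g a, mul_inv_cancel_right]

variable [Finite G]

theorem exists_apply_ne_one {χ : Cfsg.IrrCharacter G} (hχ : χ ≠ oneIrr G) :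
    ∃ g, (χ : G → ℂ) g ≠ 1 := by
  by_contra hall
  push Not at hall
  exact hχ (Subtype.ext (funext hall))

/-- In a nonabelian simple group a nonprincipal character attains its degree only at `1`. -/
theorem eq_one_of_apply_eq (hs : IsSimpleGroup G) (hna : ∃ a b : G, a * b ≠ b * a)
    {χ : Cfsg.IrrCharacter G} (hχ : χ ≠ oneIrr G) {g : G}
    (hg : (χ : G → ℂ) g = (χ : G → ℂ) 1) : g = 1 := by
  haveI := hs
  exact (CharDeep.Small.simple_facts (fun h => hna.elim fun a ha => ha.elim fun b hb =>
    hb (h a b))).2.1 χ (exists_apply_ne_one hχ) g hg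

/-- In a nonabelian simple group only the principal character is linear. -/
theorem charDegree_ne_one (hs : IsSimpleGroup G) (hna : ∃ a b : G, a * b ≠ b * a)
    {χ : Cfsg.IrrCharacter G} (hχ : χ ≠ oneIrr G) : Cfsg.charDegree (χ : G → ℂ) ≠ 1 := by
  haveI := hs
  intro h
  obtain ⟨g, hg⟩ := exists_apply_ne_one hχ
  exact hg ((CharDeep.Small.simple_facts (fun h => hna.elim fun a ha => ha.elim fun b hb =>
    hb (h a b))).1 χ h g)

end Cfsg.Agent.PComp40
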