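import Cfsg.Agent.PComp40.Group
import Cfsg.Agent.PComp40.Simple
import Cfsg.Agent.PComp40.FamilyLinear
import Cfsg.Agent.PComp40.Coherent
import Cfsg.Agent.BC87.Basic
import Cfsg.Agent.Blocks88.Modular
import Cfsg.Agent.Lib.BlocksCore.DefectZero

/-!
# Odd `p`: two central elements that are not inverse conjugates
-/

set_option autoImplicit false

namespace Cfsg.Agent.PComp40

open BlocksDefect BlocksCore BlocksCore.CyclicPrincipal
open scoped ComplexConjugate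

universe u

variable {G : Type u} [Group G] [Fintype G] {p : ℕ} [Fact p.Prime] {P : Sylow p G}
  {M : Ideal Cfsg.AlgInt} {L : Type u} [Group L] [Fintype L]

open scoped Classical in
/-- A member of the principal block whose multiplicities are proportional to the degrees on the
characters nontrivial on the central elements of order `p` is constant on these elements. -/
theorem Frame.apply_central_eq (F : Frame P L) {X : Set (Cfsg.IrrCharacter F.K)}
    (hX : F.centSet ⊆ X) (hX0 : X.Nonempty) {ξ : Cfsg.IrrCharacter G}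
    (hprop : ∀ θ ∈ X, ∀ θ' ∈ X, (θ' : F.K → ℂ) 1 * F.mult (θ : F.K → ℂ) (ξ : G → ℂ) =
      (θ : F.K → ℂ) 1 * F.mult (θ' : F.K → ℂ) (ξ : G → ℂ))
    {z z' : F.K} (hz : z ∈ Subgroup.center F.K) (hzp : z ^ p = 1) (hz1 : z ≠ 1)
    (hz' : z' ∈ Subgroup.center F.K) (hz'p : z' ^ p = 1) (hz'1 : z' ≠ 1) :
    (ξ : G → ℂ) (F.ι z) = (ξ : G → ℂ) (F.ι z') := by
  obtain ⟨θ₀, hθ₀⟩ := hX0
  set r : ℂ := F.mult (θ₀ : F.K → ℂ) (ξ : G → ℂ) / (θ₀ : F.K → ℂ) 1 with hr
  have hn : ∀ θ ∈ X, F.mult (θ : F.K → ℂ) (ξ : G → ℂ) = r * (θ : F.K → ℂ) 1 := by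
    intro θ hθ
    rw [hr, div_mul_eq_mul_div, eq_div_iff (irr_one_ne_zero θ₀)]
    linear_combination -(hprop θ₀ hθ₀ θ hθ)
  have key : ∀ w : F.K, w ∈ Subgroup.center F.K → w ^ p = 1 → w ≠ 1 →
      (ξ : G → ℂ) (F.ι w) = ∑ θ : Cfsg.IrrCharacter F.K, if θ ∈ X then 0 else
        (F.mult (θ : F.K → ℂ) (ξ : G → ℂ) * (θ : F.K → ℂ) 1 -
          r * ((θ : F.K → ℂ) 1 * conj ((θ : F.K → ℂ) 1))) := by
    intro w hw hwp hw1
    have hcol : ∑ θ : Cfsg.IrrCharacter F.K, (θ : F.K → ℂ) w * conj ((θ : F.K → ℂ) 1) = 0 := by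
      rw [CharCore.sum_apply_mul_conj, if_neg fun hc => hw1 (isConj_one_left.1 hc)]
    rw [F.res_eq_sum ξ w, show (∑ θ : Cfsg.IrrCharacter F.K,
        F.mult (θ : F.K → ℂ) (ξ : G → ℂ) * (θ : F.K → ℂ) w) =
      ∑ θ : Cfsg.IrrCharacter F.K, (F.mult (θ : F.K → ℂ) (ξ : G → ℂ) * (θ : F.K → ℂ) w -
        r * ((θ : F.K → ℂ) w * conj ((θ : F.K → ℂ) 1))) by
      rw [Finset.sum_sub_distrib, ← Finset.mul_sum, hcol, mul_zero, sub_zero]]
    refine Finset.sum_congr rfl fun θ _ => ?_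
    split_ifs with hθ
    · rw [hn θ hθ, irr_one_eq θ, map_natCast]
      ring
    · have hk : (θ : F.K → ℂ) w = (θ : F.K → ℂ) 1 := by
        by_contra hne
        exact hθ (hX ⟨w, hw, hwp, hne⟩)
      rw [hk]
  rw [key z hz hzp hz1, key z' hz' hz'p hz'1]

/-- An element of `IsV` read in the frame. -/
theorem Frame.exists_central (F : Frame P L) {x : G} (hx : IsV P x) :
    ∃ k : F.K, F.ι k = x ∧ k ∈ Subgroup.center F.K ∧ k ^ p = 1 ∧ k ≠ 1 := by
  obtain ⟨k, rfl⟩ := F.exists_ι_eq hx.1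
  refine ⟨k, rfl, Subgroup.mem_center_iff.2 fun a => F.ι_injective ?_, F.ι_injective ?_, ?_⟩
  · rw [map_mul, map_mul]
    exact (hx.2.2 _ (F.ι_mem a)).symm
  · have e := pow_orderOf_eq_one (F.ι k)
    rw [hx.2.1] at e
    rw [map_pow, map_one, e]
  · rintro rfl
    have := hx.2.1
    rw [map_one, orderOf_one] at this
    exact (Fact.out : p.Prime).one_lt.ne this

open scoped Classical in
/-- A nonprincipal member with multiplicities proportional to the degrees vanishes at `u` when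
two central elements of order `p` are not inverse conjugates. -/
theorem Hyp.apply_eq_zero (h : Hyp P) (hs : IsSimpleGroup G) (hM : Cfsg.IsPModular p M)
    (F : Frame P L) {X : Set (Cfsg.IrrCharacter F.K)} (hX : F.centSet ⊆ X) (hX0 : X.Nonempty)
    {u v : G} (hu : IsV P u) (hv : IsV P v) (huv : ¬ IsConj u⁻¹ v)
    {ξ : Cfsg.IrrCharacter G} (hξ : ξ ∈ members M G) (hξ1 : ξ ≠ oneIrr G)
    (hprop : ∀ θ ∈ X, ∀ θ' ∈ X, (θ' : F.K → ℂ) 1 * F.mult (θ : F.K → ℂ) (ξ : G → ℂ) =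
      (θ : F.K → ℂ) 1 * F.mult (θ' : F.K → ℂ) (ξ : G → ℂ)) :
    (ξ : G → ℂ) u = 0 := by
  have hp : p.Prime := Fact.out
  have hna := h.exists_noncomm
  have hu1 : u ≠ 1 := fun e => hp.one_lt.ne' (hu.2.1.symm.trans (e ▸ orderOf_one))
  have hconst : ∀ w, IsV P w → (ξ : G → ℂ) w = (ξ : G → ℂ) u := by
    intro w hw
    obtain ⟨k, rfl, hk, hkp, hk1⟩ := F.exists_central hw
    obtain ⟨k', hk'e, hk', hk'p, hk'1⟩ := F.exists_central hu
    rw [← hk'e]
    exact F.apply_central_eq hX hX0 hprop hk hkp hk1 hk' hk'p hk'1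
  have hterm : ∀ g : G, (ξ : G → ℂ) (g⁻¹ * u * g * v) = (ξ : G → ℂ) u := by
    intro g
    rw [show g⁻¹ * u * g * v = g⁻¹ * (u * (g * v * g⁻¹)) * (g⁻¹)⁻¹ by group, irr_class]
    rcases h.product hu hv (isConj_iff.2 ⟨g, rfl⟩ : IsConj v (g * v * g⁻¹)) with
      ⟨hc, -, -⟩ | ⟨w, s, hw, hws, hc⟩
    · exact absurd (hc.trans (isConj_iff.2 ⟨g, rfl⟩ : IsConj v (g * v * g⁻¹)).symm) huv
    · have hw1 : w ≠ 1 := fun e => hp.one_lt.ne' (hw.2.1.symm.trans (e ▸ orderOf_one))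
      rw [apply_section h.kernels hM hξ hws hw.1 hw1 hc, hconst w hw]
  have h1 := sum_char_conj_mul ξ u v
  rw [Finset.sum_congr rfl fun g _ => hterm g, Finset.sum_const, Finset.card_univ,
    nsmul_eq_mul, ← Nat.card_eq_fintype_card, hconst v hv,
    eq_div_iff (irr_one_ne_zero ξ), mul_assoc, mul_assoc] at h1
  have h2 : (ξ : G → ℂ) u * (ξ : G → ℂ) 1 = (ξ : G → ℂ) u * (ξ : G → ℂ) u :=
    mul_left_cancel₀ (Nat.cast_ne_zero.2 Nat.card_pos.ne') h1
  by_contra hne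
  exact hu1 (eq_one_of_apply_eq hs hna hξ1 (mul_left_cancel₀ hne h2).symm)

open scoped Classical in
/-- Case A of odd `p`, from a coherent family. -/
theorem Hyp.false_of_family (h : Hyp P) (hs : IsSimpleGroup G) (hM : Cfsg.IsPModular p M)
    (F : Frame P L) {X : Set (Cfsg.IrrCharacter F.K)} (Fam : F.Family M X) (hX : F.centSet ⊆ X)
    {u v : G} (hu : IsV P u) (hv : IsV P v) (huv : ¬ IsConj u⁻¹ v) : False := by
  have hp : p.Prime := Fact.out
  haveI : M.IsPrime := isPrime hM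
  have hna := h.exists_noncomm
  have hu1 : u ≠ 1 := fun e => hp.one_lt.ne' (hu.2.1.symm.trans (e ▸ orderOf_one))
  -- members outside the family vanish at `u`
  have hzero : ∀ ξ ∈ members M G, ξ ≠ oneIrr G → (∀ θ ∈ X, Fam.chi θ ≠ ξ) →
      (ξ : G → ℂ) u = 0 := by
    intro ξ hξ hξ1 hout
    refine h.apply_eq_zero hs hM F hX (Fam.two.imp fun θ hθ => hθ.1) hu hv huv hξ hξ1
      fun θ hθ θ' hθ' => ?_
    have h1 := Fam.rel θ hθ θ' hθ' ξ hξ
    rw [if_neg (fun e => hout θ hθ e.symm), if_neg (fun e => hout θ' hθ' e.symm)] at h1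
    simpa [sub_eq_zero] using h1
  -- the least degree in `X`
  have hne : (Finset.univ.filter (· ∈ X)).Nonempty := by
    obtain ⟨θ, hθ, -⟩ := Fam.two
    exact ⟨θ, Finset.mem_filter.2 ⟨Finset.mem_univ _, hθ⟩⟩
  obtain ⟨θ₀, hθ₀, hmin⟩ := Finset.exists_min_image (Finset.univ.filter (· ∈ X))
    (fun θ : Cfsg.IrrCharacter F.K => Cfsg.charDegree (θ : F.K → ℂ)) hne
  have hθ₀X : θ₀ ∈ X := (Finset.mem_filter.1 hθ₀).2
  have hKp : ∃ n, Nat.card F.K = p ^ n := by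
    rw [Nat.card_congr F.iso.toEquiv]
    exact IsPGroup.iff_card.1 P.2
  obtain ⟨n, hn⟩ := hKp
  have hmul : ∀ θ ∈ X, ∃ m : ℕ, (Fam.chi θ : G → ℂ) 1 = (m : ℂ) * (Fam.chi θ₀ : G → ℂ) 1 := by
    intro θ hθ
    obtain ⟨a, -, ha⟩ := (Nat.dvd_prime_pow hp).1 (hn ▸ charDegree_dvd_card θ₀)
    obtain ⟨b, -, hb⟩ := (Nat.dvd_prime_pow hp).1 (hn ▸ charDegree_dvd_card θ)
    have hab : a ≤ b := by
      have := hmin θ (Finset.mem_filter.2 ⟨Finset.mem_univ _, hθ⟩)
      simp only [ha, hb] at this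
      exact (Nat.pow_le_pow_iff_right hp.one_lt).1 this
    refine ⟨p ^ (b - a), mul_left_cancel₀ (irr_one_ne_zero θ₀) ?_⟩
    rw [Fam.deg θ hθ θ₀ hθ₀X, irr_one_eq θ, irr_one_eq θ₀, ha, hb, ← mul_assoc, ← Nat.cast_mul,
      ← pow_add, Nat.add_sub_cancel' hab]
  -- orthogonality to the identity
  have hsum : ∑ ξ ∈ members M G, (ξ : G → ℂ) 1 * conj ((ξ : G → ℂ) u) = 0 := by
    have h0 := sum_section h.kernels hM (isPPart_self (one_mem (P : Subgroup G))) hu.1 hu1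
    rwa [if_neg fun hc => hu1 (isConj_one_left.1 hc)] at h0
  rw [← Finset.sum_erase_add _ _ (mem_members.2 (oneIrr_mem (M := M)) : oneIrr G ∈ members M G)]
    at hsum
  simp only [coe_oneIrr, map_one, one_mul] at hsum
  have hint : ∃ a : ℂ, IsIntegral ℤ a ∧ (∑ ξ ∈ (members M G).erase (oneIrr G),
      (ξ : G → ℂ) 1 * conj ((ξ : G → ℂ) u)) = (Fam.chi θ₀ : G → ℂ) 1 * a := by
    refine Finset.sum_induction _ (fun z => ∃ a : ℂ, IsIntegral ℤ a ∧
      z = (Fam.chi θ₀ : G → ℂ) 1 * a) ?_ ⟨0, isIntegral_zero, (mul_zero _).symm⟩ ?_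
    · rintro _ _ ⟨a, ha, rfl⟩ ⟨b, hb, rfl⟩
      exact ⟨a + b, ha.add hb, (mul_add _ _ _).symm⟩
    · intro ξ hξ
      obtain ⟨hξ1, hξB⟩ := Finset.mem_erase.1 hξ
      by_cases hex : ∃ θ ∈ X, Fam.chi θ = ξ
      · obtain ⟨θ, hθ, rfl⟩ := hex
        obtain ⟨m, hm⟩ := hmul θ hθ
        refine ⟨(m : ℂ) * conj ((Fam.chi θ : G → ℂ) u), ?_, by rw [hm]; ring⟩
        rw [conj_irr]
        exact (CharCore.isIntegral_natCast m).mul (isIntegral_irr _ _)
      · push Not at hex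
        exact ⟨0, isIntegral_zero, by rw [hzero ξ hξB hξ1 hex, map_zero, mul_zero, mul_zero]⟩
  obtain ⟨a, ha, hae⟩ := hint
  rw [hae] at hsum
  obtain ⟨D, hD0, hD, hDdeg⟩ := exists_degree (Fam.chi θ₀)
  have hD1 : D ≠ 1 := fun e => charDegree_ne_one hs hna (Fam.ne_one θ₀ hθ₀X) (hDdeg.trans e)
  rw [hD] at hsum
  have ha' : a = algebraMap ℚ ℂ (-1 / (D : ℚ)) := by
    have hDne : (D : ℂ) ≠ 0 := Nat.cast_ne_zero.2 hD0.ne'
    rw [map_div₀, map_neg, map_one, map_natCast, eq_div_iff hDne]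
    linear_combination hsum
  rw [ha', isIntegral_algebraMap_iff (algebraMap ℚ ℂ).injective] at ha
  obtain ⟨z, hz⟩ := IsIntegrallyClosed.isIntegral_iff.1 ha
  have hDq : (D : ℚ) ≠ 0 := Nat.cast_ne_zero.2 hD0.ne'
  rw [eq_div_iff hDq, eq_intCast] at hz
  have h1 : z * (D : ℤ) = -1 := by exact_mod_cast hz
  have h2 : (D : ℤ) ∣ 1 := ⟨-z, by linarith⟩
  exact hD1 (Nat.dvd_one.1 (by exact_mod_cast h2))

/-- Odd `p`: any two central elements of order `p` are inverse conjugates in a simple group. -/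
theorem Hyp.false_of_not_inverse {G : Type u} [Group G] [Finite G] {p : ℕ} [Fact p.Prime]
    (P : Sylow p G) (h : Hyp P) (hp2 : p ≠ 2) (hs : IsSimpleGroup G) {u v : G} (hu : IsV P u)
    (hv : IsV P v) (huv : ¬ IsConj u⁻¹ v) : False := by
  classical
  haveI := Fintype.ofFinite G
  have hp : p.Prime := Fact.out
  obtain ⟨M, hM⟩ := Blocks88.exists_isPModular hp
  haveI : M.IsPrime := isPrime hM
  obtain ⟨L, _, _, ⟨F⟩⟩ := h.exists_frame
  by_cases hcomm : ∀ a ∈ (P : Subgroup G), ∀ b ∈ (P : Subgroup G), a * b = b * a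
  · have hK : ∀ a b : F.K, a * b = b * a := fun a b => F.ι_injective (by
      rw [map_mul, map_mul]; exact hcomm _ (F.ι_mem a) _ (F.ι_mem b))
    have hlin : ∀ θ : Cfsg.IrrCharacter F.K, (θ : F.K → ℂ) 1 = 1 := fun θ =>
      BC87.apply_one_eq_one_of_comm hK θ
    have hX : F.centSet ⊆ F.linSet := fun θ hθ => by
      obtain ⟨z, -, -, hne⟩ := hθ
      exact ⟨hlin θ, fun e => hne (by simp [e])⟩
    by_cases two : ∃ θ ∈ F.linSet, ∃ θ' ∈ F.linSet,
        Cfsg.indFun F.K (θ : F.K → ℂ) ≠ Cfsg.indFun F.K (θ' : F.K → ℂ)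
    · obtain ⟨Fam⟩ := F.exists_family_linear h.kernels hM two
      exact h.false_of_family hs hM F Fam hX hu hv huv
    -- one orbit: every nonprincipal member vanishes at `u`
    push Not at two
    have hu1 : u ≠ 1 := fun e => hp.one_lt.ne' (hu.2.1.symm.trans (e ▸ orderOf_one))
    have hne : F.linSet.Nonempty := by
      by_contra hemp
      obtain ⟨k, -, -, -, hk1⟩ := F.exists_central hu
      have hcol : ∑ θ : Cfsg.IrrCharacter F.K, (θ : F.K → ℂ) k * conj ((θ : F.K → ℂ) 1) = 0 := by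
        rw [CharCore.sum_apply_mul_conj, if_neg fun hc => hk1 (isConj_one_left.1 hc)]
      rw [Finset.sum_eq_single_of_mem (oneIrr F.K) (Finset.mem_univ _) fun θ _ hθ =>
        absurd ⟨θ, hlin θ, fun e => hθ (Subtype.ext e)⟩ hemp] at hcol
      simp [coe_oneIrr] at hcol
    have hsum := sum_section h.kernels hM (isPPart_self (one_mem (P : Subgroup G))) hu.1 hu1
    rw [if_neg fun hc => hu1 (isConj_one_left.1 hc),
      Finset.sum_eq_single_of_mem (oneIrr G) (mem_members.2 (oneIrr_mem (M := M)))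
        fun ξ hξ hξ1 => by
          rw [h.apply_eq_zero hs hM F hX hne hu hv huv hξ hξ1 fun θ hθ θ' hθ' => by
            rw [hθ.1, hθ'.1, F.mult_congr (irr_class ξ) (two θ hθ θ' hθ')], map_zero,
            mul_zero]] at hsum
    simp [coe_oneIrr] at hsum
  · have hodd : Odd (Nat.card L) := by
      refine Nat.not_even_iff_odd.1 fun he => hcomm (F.commute_of_even_index hp2 ?_)
      rw [← F.K.card_mul_index, Nat.even_mul] at he
      refine he.resolve_left (Nat.not_even_iff_odd.2 ?_)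
      obtain ⟨n, hn⟩ := IsPGroup.iff_card.1 P.2
      rw [F.card_K, hn]
      exact (hp.odd_of_ne_two hp2).pow
    obtain ⟨Fam⟩ := F.exists_family_central h.kernels hM h.ne_bot hodd
    exact h.false_of_family hs hM F Fam (le_refl _) hu hv huv

end Cfsg.Agent.PComp40
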