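import Cfsg.Agent.PComp40.OddB.Count
import Cfsg.Agent.PComp40.Group
import Cfsg.Agent.PComp40.FamilyLinear
import Cfsg.Agent.Blocks88.Modular

/-!
# S3297, `p` odd, one class of central elements of order `p`

If any two central elements of order `p` of `P` are inverse up to conjugation, the frame has even
index, so `P` is abelian and all its elements of order `p` form one class; the character count of
`OddB.Count` gives a contradiction.
-/

set_option autoImplicit false
set_option linter.unusedSectionVars false

namespace Cfsg.Agent.PComp40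

open BlocksDefect BlocksCore.CyclicPrincipal

universe u

variable {G : Type u} [Group G] [Finite G] {p : ℕ} [hpf : Fact p.Prime]

/-- S3297 for `p` odd when any two central elements of order `p` are inverse up to conjugation. -/
theorem Hyp.false_of_one_class (P : Sylow p G) (h : Hyp P) (hp : p ≠ 2)
    (hsimple : IsSimpleGroup G) (hV : ∀ u v, IsV P u → IsV P v → IsConj u⁻¹ v) : False := by
  classical
  have := Fintype.ofFinite G
  obtain ⟨u, hu⟩ := h.exists_isV
  obtain ⟨L, _, _, ⟨F⟩⟩ := h.exists_frame
  obtain ⟨M, hM⟩ := Blocks88.exists_isPModular hpf.out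
  have := BlocksCore.isPrime hM
  obtain ⟨k, hk⟩ := F.exists_ι_eq hu.1
  have hu1 : u ≠ 1 := fun e => hpf.out.ne_one (by rw [← hu.2.1, e, orderOf_one])
  have hk1 : k ≠ 1 := fun e => hu1 (by rw [← hk, e, map_one])
  have hinv : IsConj u u⁻¹ := (hV u u hu hu).symm
  have heven : Even F.K.index := by
    refine OddB.even_index F hp hk1 ?_
    rw [← Subgroup.coe_inv, ← F.conj_iff, ← Frame.ι_apply, ← Frame.ι_apply, map_inv, hk]
    exact hinv
  have hcomm := F.commute_of_even_index hp heven
  have hab : ∀ a b : F.K, a * b = b * a := fun a b => F.ι_injective (by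
    rw [map_mul, map_mul]
    exact hcomm _ (F.ι_mem a) _ (F.ι_mem b))
  have hone : ∀ x ∈ (P : Subgroup G), orderOf x = p → IsConj u x := fun x hx ho =>
    hinv.trans (hV u x hu ⟨hx, ho, hcomm x hx⟩)
  refine OddB.false_of_facts F hp hsimple (M := M) hab hu.1 hu.2.1 hone (fun g s hs => ?_)
    (fun two => F.exists_family_linear h.kernels hM two) fun y hy => ?_
  · have hcard : Nat.card ↥((P : Subgroup G) ⊓ Subgroup.centralizer ({u} : Set G)) =
        Nat.card F.K := by
      rw [inf_eq_left.2 fun a ha =>
        Subgroup.mem_centralizer_singleton_iff.2 (hcomm a ha u hu.1)]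
      exact (Nat.card_congr F.iso.toEquiv).symm
    rw [← hcard]
    exact sum_section h.kernels hM hs hu.1 hu1
  · rcases h.product hu hu hy with ⟨-, h1, h2⟩ | ⟨w, s, hw, hs, hws⟩
    · exact Or.inl ⟨h1, h2 2 one_lt_two (by have := hpf.out.two_le; omega)⟩
    · exact Or.inr ⟨s, hs, (hinv.trans (hV u w hu hw)).trans hws⟩

end Cfsg.Agent.PComp40
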