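import Cfsg.Agent.PComp40.SixtyFourCount.Kernel
import Cfsg.Agent.PComp40.SixtyFourCount.Involution
import Cfsg.Agent.PComp40.SixtyFourCount.Sums
import Cfsg.Agent.PComp40.Blocks
import Cfsg.Agent.PComp40.FamilyLinear
import Cfsg.Agent.Blocks88.Modular

/-!
# The kernel of order 64: the character count

By the block relations and the coherent family of the linear characters, no simple group has such
a frame.
-/

set_option autoImplicit false
set_option linter.style.haveILetI false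

namespace Cfsg.Agent.PComp40

open BlocksDefect BlocksCore BlocksCore.CyclicPrincipal SixtyFourCount
open scoped ComplexConjugate

universe u

variable {G : Type u} [Group G] [Fintype G] {P : Sylow 2 G} {L : Type u} [Group L] [Fintype L]

/-- In a simple group a member with the same value at an element other than `1` as at `1` is
principal. -/
private theorem eq_oneIrr_of_apply_eq (hsimple : IsSimpleGroup G) {g : G} (hg : g ≠ 1)
    {ξ : Cfsg.IrrCharacter G} (h : (ξ : G → ℂ) g = (ξ : G → ℂ) 1) : ξ = oneIrr G := by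
  have hchar := CharCore.irr_isCharacter ξ
  have htop : CharCore.charKernel hchar = ⊤ :=
    ((CharCore.charKernel_normal hchar).eq_bot_or_eq_top).resolve_left fun e =>
      hg (Subgroup.mem_bot.1 (e ▸ (CharCore.mem_charKernel hchar g).2 h))
  have hconst : ∀ y, (ξ : G → ℂ) y = (ξ : G → ℂ) 1 := fun y =>
    (CharCore.mem_charKernel hchar y).1 (htop ▸ Subgroup.mem_top y)
  by_contra hne
  have h0 := CharCore.classInner_irr_of_ne hne
  rw [CharCore.classInner_def] at h0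
  simp only [coe_oneIrr, hconst, map_one, mul_one, Finset.sum_const, Finset.card_univ,
    nsmul_eq_mul, mul_eq_zero, inv_eq_zero, Nat.cast_eq_zero] at h0
  rcases h0 with h0 | h0 | h0
  · exact Nat.card_pos.ne' h0
  · exact Fintype.card_ne_zero h0
  · exact CharCore.irr_apply_one_ne_zero ξ h0

open scoped Classical in
/-- No simple group has a frame with kernel of order 64 and three central involutions. -/
theorem Hyp.false_of_sixtyFour {G : Type u} [Group G] [Fintype G] (P : Sylow 2 G) (h : Hyp P)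
    (hsimple : IsSimpleGroup G) {L : Type u} [Group L] [Fintype L] (F : Frame P L)
    (hF : SixtyFour F) : False := by
  haveI : Fact (Nat.Prime 2) := ⟨Nat.prime_two⟩
  obtain ⟨M, hM⟩ := Blocks88.exists_isPModular Nat.prime_two
  have hK := h.kernels
  have := isPrime hM
  -- elements
  obtain ⟨z, hz, hz1⟩ : ∃ z : F.K, z ∈ Subgroup.center F.K ∧ z ≠ 1 := by
    by_contra hall
    push Not at hall
    have h := hF.card_center
    rw [(Subgroup.eq_bot_iff_forall _).2 hall, Subgroup.card_bot] at h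
    omega
  obtain ⟨x, hx⟩ : ∃ x : F.K, x ∉ Subgroup.center F.K := by
    by_contra hall
    push Not at hall
    have h := hF.card_center
    rw [(Subgroup.eq_top_iff' _).2 hall, Subgroup.card_top, card_kernel hF] at h
    omega
  have hz2 : z ^ 2 = 1 := (hF.mem_center z).1 hz
  have hx1 : x ≠ 1 := fun e => hx (e ▸ one_mem _)
  have hx2 : x ^ 2 ≠ 1 := fun e => hx ((hF.mem_center x).2 e)
  set u := F.ι z with hudef
  have hu2 : u ^ 2 = 1 := by rw [hudef, ← map_pow, hz2, map_one]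
  have hxu : ∀ w : G, w ^ 2 = 1 → ¬ IsConj (F.ι x) w := fun w hw hc => hx2 (by
    obtain ⟨c, hc⟩ := isConj_iff.1 hc
    refine F.ι_injective ?_
    rw [map_pow, map_one]
    refine (MulAut.conj c).injective ?_
    rw [map_pow, map_one, MulAut.conj_apply, hc, hw])
  -- the family
  obtain ⟨θ₀, hθ₀⟩ : (lin F).Nonempty := Finset.card_pos.1 (by rw [card_lin hF]; norm_num)
  obtain ⟨Fam⟩ := F.exists_family_linear hK hM (by
    by_contra hno
    push Not at hno
    have hsub : lin F ⊆ fibre θ₀ := fun θ hθ =>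
      Finset.mem_filter.2 ⟨hθ, hno θ (mem_lin.1 hθ) θ₀ (mem_lin.1 hθ₀)⟩
    have h := Finset.card_le_card hsub
    rw [card_lin hF, card_fibre hF hθ₀] at h
    omega)
  set ε := Fam.ε with hεdef
  have hεsq : (ε : ℂ) * ε = 1 := by rcases Fam.ε_eq with e | e <;> simp [hεdef, e]
  obtain ⟨ν₀, hν₀⟩ : (nonlin F).Nonempty := by
    rw [Finset.nonempty_iff_ne_empty]
    intro e
    have h := nonlin_sum_center hF (one_mem (Subgroup.center F.K))
    rw [e, if_pos rfl] at h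
    norm_num at h
  -- multiplicities
  have hclass : ∀ ξ : Cfsg.IrrCharacter G, Cfsg.IsCharacter F.K (F.res (ξ : G → ℂ)) := fun ξ =>
    CharCore.isCharacter_comp (CharCore.irr_isCharacter ξ) F.ι
  choose N hN using fun (θ : Cfsg.IrrCharacter F.K) (ξ : Cfsg.IrrCharacter G) =>
    CharCore.IsCharacter.exists_classInner_irr_eq_natCast (hclass ξ) θ
  let a : Cfsg.IrrCharacter G → ℤ := fun ξ =>
    (N θ₀ ξ : ℤ) - ε * if ξ = Fam.chi θ₀ then 1 else 0
  let m : Cfsg.IrrCharacter G → ℤ := fun ξ => (N (oneIrr F.K) ξ : ℤ)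
  let κ : Cfsg.IrrCharacter G → ℤ := fun ξ => (N ν₀ ξ : ℤ)
  let b : Cfsg.IrrCharacter G → ℤ := fun ξ => m ξ - a ξ
  let s : Cfsg.IrrCharacter G → Finset (Cfsg.IrrCharacter F.K) := fun ξ =>
    (lin F).filter fun θ => Fam.chi θ = ξ
  let c : Cfsg.IrrCharacter G → ℤ := fun ξ => m ξ + 15 * a ξ + ε * (s ξ).card - 4 * κ ξ
  let d : Cfsg.IrrCharacter G → ℤ := fun ξ => c ξ + 16 * κ ξ
  have hnlin : ∀ θ ∈ lin F, ∀ ξ ∈ members M G,
      (N θ ξ : ℂ) = (a ξ : ℂ) + (ε : ℂ) * if ξ = Fam.chi θ then 1 else 0 := by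
    intro θ hθ ξ hξ
    have h := Fam.rel θ (mem_lin.1 hθ) θ₀ (mem_lin.1 hθ₀) ξ hξ
    rw [apply_one_of_lin hθ, apply_one_of_lin hθ₀, one_mul, one_mul, one_mul, one_mul] at h
    simp only [a, Frame.mult, hN] at h ⊢
    push_cast
    linear_combination h
  have hnnon : ∀ θ ∈ nonlin F, ∀ ξ ∈ members M G, (N θ ξ : ℂ) = (κ ξ : ℂ) := by
    intro θ hθ ξ hξ
    have h := F.mult_congr (irr_class ξ) (hF.nonlinear_orbit θ ν₀ (Finset.mem_filter.1 hθ).2
      (Finset.mem_filter.1 hν₀).2)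
    simp only [Frame.mult, hN] at h
    simpa [κ] using h
  have hval : ∀ ξ ∈ members M G, ∀ k : F.K, (ξ : G → ℂ) (F.ι k) =
      (m ξ : ℂ) + (a ξ : ℂ) * ∑ θ ∈ lin F, (θ : F.K → ℂ) k +
        (ε : ℂ) * ∑ θ ∈ s ξ, (θ : F.K → ℂ) k +
        (κ ξ : ℂ) * ∑ θ ∈ nonlin F, (θ : F.K → ℂ) k := by
    intro ξ hξ k
    have h := congrFun (CharCore.IsCharacter.eq_sum_classInner (hclass ξ)) k
    simp only [Finset.sum_apply, Pi.smul_apply, smul_eq_mul, hN] at h
    rw [sum_split] at h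
    rw [show (ξ : G → ℂ) (F.ι k) = F.res (ξ : G → ℂ) k from rfl, h,
      Finset.sum_congr rfl (fun θ hθ => by rw [hnlin θ hθ ξ hξ]),
      Finset.sum_congr (s₂ := nonlin F) rfl (fun θ hθ => by rw [hnnon θ hθ ξ hξ]),
      ← Finset.mul_sum]
    simp only [add_mul, Finset.sum_add_distrib, ← Finset.mul_sum, mul_assoc, ite_mul, one_mul,
      zero_mul, s, Finset.sum_filter, eq_comm (b := ξ)]
    simp only [coe_oneIrr, m, mul_one, Int.cast_natCast]
    ring
  have hscard : ∀ ξ, ∀ k ∈ Subgroup.center F.K,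
      ∑ θ ∈ s ξ, (θ : F.K → ℂ) k = ((s ξ).card : ℂ) := fun ξ k hk => by
    rw [Finset.sum_congr (s₁ := s ξ) rfl fun θ hθ => lin_center hF (θ := θ)
      (apply_one_of_lin (Finset.mem_filter.1 hθ).1) hk]
    simp
  have hvu : ∀ ξ ∈ members M G, (ξ : G → ℂ) u = (c ξ : ℂ) := fun ξ hξ => by
    rw [hudef, hval ξ hξ, sum_lin_center hF hz, hscard ξ z hz, nonlin_sum_center hF hz,
      if_neg hz1]
    simp only [c]
    push_cast
    ring
  have hv1 : ∀ ξ ∈ members M G, (ξ : G → ℂ) 1 = (d ξ : ℂ) := fun ξ hξ => by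
    rw [← F.ι.map_one, hval ξ hξ, sum_lin_center hF (one_mem _), hscard ξ 1 (one_mem _),
      nonlin_sum_center hF (one_mem _), if_pos rfl]
    simp only [c, d]
    push_cast
    ring
  have hvx : ∀ ξ ∈ members M G, (ξ : G → ℂ) (F.ι x) =
      (b ξ : ℂ) + (ε : ℂ) * ∑ θ ∈ s ξ, (θ : F.K → ℂ) x := fun ξ hξ => by
    rw [hval ξ hξ, sum_lin_off hF hx, sum_nonlin_off hF hx]
    simp only [b]
    push_cast
    ring
  -- the members of the family
  have hschi : ∀ θ ∈ lin F, s (Fam.chi θ) = fibre θ := fun θ hθ =>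
    Finset.filter_congr fun θ' hθ' => Fam.inj θ' (mem_lin.1 hθ') θ (mem_lin.1 hθ)
  have hmem : ∀ θ ∈ lin F, Fam.chi θ ∈ members M G := fun θ hθ => Fam.mem θ (mem_lin.1 hθ)
  have hdiff : ∀ θ ∈ lin F, ∀ θ' ∈ lin F, ∀ k : F.K, k ≠ 1 →
      (ε : ℂ) * (conj ((Fam.chi θ : G → ℂ) (F.ι k)) - conj ((Fam.chi θ' : G → ℂ) (F.ι k))) =
        conj (Cfsg.indFun F.K (θ : F.K → ℂ) k) - conj (Cfsg.indFun F.K (θ' : F.K → ℂ) k) := by
    intro θ hθ θ' hθ' k hk
    rw [← F.sum_mult_apply hK hM hk, ← F.sum_mult_apply hK hM hk, ← Finset.sum_sub_distrib,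
      Finset.sum_congr rfl (g := fun ξ => (ε : ℂ) * ((if ξ = Fam.chi θ then 1 else 0) -
        (if ξ = Fam.chi θ' then 1 else 0)) * conj ((ξ : G → ℂ) (F.ι k))) fun ξ hξ => by
        simp only [Frame.mult, hN]
        rw [hnlin θ hθ ξ hξ, hnlin θ' hθ' ξ hξ]
        ring]
    simp only [mul_sub, sub_mul, Finset.sum_sub_distrib, mul_ite, mul_one, mul_zero, ite_mul,
      zero_mul, Finset.sum_ite_eq', hmem θ hθ, hmem θ' hθ', if_true]
  have hbeq : ∀ θ ∈ lin F, b (Fam.chi θ) = b (Fam.chi θ₀) := by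
    intro θ hθ
    have h := hdiff θ hθ θ₀ hθ₀ x hx1
    rw [hvx _ (hmem θ hθ), hvx _ (hmem θ₀ hθ₀), hschi θ hθ, hschi θ₀ hθ₀,
      ← indFun_eq_sum hF hθ, ← indFun_eq_sum hF hθ₀] at h
    simp only [map_add, map_mul, map_intCast] at h
    have h' : (b (Fam.chi θ) : ℂ) = b (Fam.chi θ₀) := by
      linear_combination (ε : ℂ) * h +
        ((b (Fam.chi θ₀) : ℂ) - b (Fam.chi θ) +
          (ε : ℂ) * (conj (Cfsg.indFun F.K (θ₀ : F.K → ℂ) x) -
            conj (Cfsg.indFun F.K (θ : F.K → ℂ) x))) * hεsq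
    exact_mod_cast h'
  have hcz : ∀ θ ∈ lin F, Cfsg.indFun F.K (θ : F.K → ℂ) z = 3 := fun θ hθ => by
    rw [indFun_eq_sum hF hθ, Finset.sum_congr (s₁ := fibre θ) rfl fun θ' h =>
      lin_center hF (θ := θ') (apply_one_of_lin (Finset.mem_filter.1 h).1) hz, Finset.sum_const,
      card_fibre hF hθ]
    norm_num
  have hceq : ∀ θ ∈ lin F, c (Fam.chi θ) = c (Fam.chi θ₀) := by
    intro θ hθ
    have h := hdiff θ hθ θ₀ hθ₀ z hz1
    rw [← hudef, hvu _ (hmem θ hθ), hvu _ (hmem θ₀ hθ₀), hcz θ hθ, hcz θ₀ hθ₀] at h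
    simp only [map_intCast, sub_self] at h
    have h' : (c (Fam.chi θ) : ℂ) = c (Fam.chi θ₀) := by
      linear_combination (ε : ℂ) * h +
        ((c (Fam.chi θ₀) : ℂ) - c (Fam.chi θ)) * hεsq
    exact_mod_cast h'
  have hdeq : ∀ θ ∈ lin F, d (Fam.chi θ) = d (Fam.chi θ₀) := by
    intro θ hθ
    have h := Fam.deg θ (mem_lin.1 hθ) θ₀ (mem_lin.1 hθ₀)
    rw [apply_one_of_lin hθ, apply_one_of_lin hθ₀, one_mul, one_mul, hv1 _ (hmem θ hθ),
      hv1 _ (hmem θ₀ hθ₀)] at h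
    exact_mod_cast h
  -- the pairing with the column of `x`
  have hpair : ∀ (f : Cfsg.IrrCharacter G → ℂ) (v : ℂ), (∀ θ ∈ lin F, f (Fam.chi θ) = v) →
      ∑ ξ ∈ members M G, f ξ * conj ((ξ : G → ℂ) (F.ι x)) =
        ∑ ξ ∈ members M G, f ξ * b ξ - (ε : ℂ) * v := by
    intro f v hv
    have h1 : ∑ ξ ∈ members M G, f ξ * ∑ θ ∈ s ξ, conj ((θ : F.K → ℂ) x) =
        ∑ θ ∈ lin F, v * conj ((θ : F.K → ℂ) x) := by
      rw [← Finset.sum_fiberwise_of_maps_to hmem (fun θ => v * conj ((θ : F.K → ℂ) x))]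
      refine Finset.sum_congr rfl fun ξ _ => ?_
      rw [Finset.mul_sum]
      refine Finset.sum_congr rfl fun θ hθ => ?_
      obtain ⟨hθl, rfl⟩ := Finset.mem_filter.1 hθ
      rw [hv θ hθl]
    rw [← Finset.mul_sum, ← map_sum conj (fun θ : Cfsg.IrrCharacter F.K => (θ : F.K → ℂ) x),
      sum_lin_off hF hx, map_neg, map_one] at h1
    rw [Finset.sum_congr rfl (g := fun ξ => f ξ * b ξ +
      (ε : ℂ) * (f ξ * ∑ θ ∈ s ξ, conj ((θ : F.K → ℂ) x))) fun ξ hξ => by
        rw [hvx ξ hξ, map_add, map_mul, map_intCast, map_intCast, map_sum]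
        ring, Finset.sum_add_distrib, ← Finset.mul_sum, h1]
    ring
  set b₀ := b (Fam.chi θ₀) with hb₀def
  set h₀ := c (Fam.chi θ₀) with hh₀def
  set D₀ := d (Fam.chi θ₀) with hD₀def
  -- first relation
  have hP : ∑ ξ ∈ members M G, b ξ ^ 2 - 2 * ε * b₀ = 3 := by
    have h1 := F.sum_mult_apply hK hM hx1 (oneIrr F.K : F.K → ℂ)
    have h2 := F.sum_mult_apply hK hM hx1 (θ₀ : F.K → ℂ)
    rw [coe_oneIrr, indFun_one hF, ← coe_oneIrr] at h1
    have h3 := congrArg₂ (· - ·) h1 h2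
    simp only [← Finset.sum_sub_distrib] at h3
    rw [Finset.sum_congr rfl (g := fun ξ => (b ξ : ℂ) * conj ((ξ : G → ℂ) (F.ι x)) -
      (ε : ℂ) * if ξ = Fam.chi θ₀ then conj ((ξ : G → ℂ) (F.ι x)) else 0) fun ξ hξ => by
        simp only [Frame.mult, hN]
        rw [hnlin θ₀ hθ₀ ξ hξ]
        simp only [b, m]
        push_cast
        split_ifs <;> ring, Finset.sum_sub_distrib, ← Finset.mul_sum, Finset.sum_ite_eq',
      if_pos (hmem θ₀ hθ₀),
      hpair (fun ξ => (b ξ : ℂ)) (b₀ : ℂ) (fun θ hθ => by rw [hbeq θ hθ]),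
      hvx _ (hmem θ₀ hθ₀), hschi θ₀ hθ₀, ← indFun_eq_sum hF hθ₀, map_add, map_mul, map_intCast,
      map_intCast, map_ofNat] at h3
    have h' : ((∑ ξ ∈ members M G, b ξ ^ 2 - 2 * ε * b₀ : ℤ) : ℂ) = 3 := by
      push_cast
      simp only [sq]
      linear_combination h3 + conj (Cfsg.indFun F.K (θ₀ : F.K → ℂ) (x : L)) * hεsq
    exact_mod_cast h'
  -- norm of the column of `u`
  have huP : u ∈ (P : Subgroup G) := F.ι_mem z
  have hu1 : u ≠ 1 := F.ι_ne_one hz1
  have hord : orderOf u = 2 := orderOf_eq_prime hu2 hu1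
  have hppu : IsPPart 2 u u := ⟨1, mul_one u, Commute.one_right u, ⟨1, by rw [pow_one, hord]⟩,
    by simp⟩
  have hcard : Nat.card ↥((P : Subgroup G) ⊓ Subgroup.centralizer ({u} : Set G)) = 64 := by
    rw [inf_eq_left.2 fun w hw => Subgroup.mem_centralizer_singleton_iff.2
      (commute_of_sq_eq_one hF huP hw hu2).symm]
    exact hF.card
  have hNN : ∑ ξ ∈ members M G, c ξ ^ 2 = 64 := by
    have h := sum_section hK hM hppu huP hu1
    rw [if_pos (IsConj.refl u), hcard, Finset.sum_congr rfl (g := fun ξ => ((c ξ ^ 2 : ℤ) : ℂ))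
      fun ξ hξ => by rw [hvu ξ hξ, map_intCast]; push_cast; ring] at h
    exact_mod_cast h
  -- orthogonality to the column of `x`
  have hBB : ∑ ξ ∈ members M G, c ξ * b ξ - ε * h₀ = 0 := by
    have h := sum_section hK hM hppu (F.ι_mem x) (F.ι_ne_one hx1)
    rw [if_neg (hxu u hu2), Finset.sum_congr rfl (g := fun ξ => (c ξ : ℂ) *
      conj ((ξ : G → ℂ) (F.ι x))) fun ξ hξ => by rw [hvu ξ hξ],
      hpair (fun ξ => (c ξ : ℂ)) (h₀ : ℂ) (fun θ hθ => by rw [hceq θ hθ])] at h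
    exact_mod_cast h
  -- products of two conjugate involutions avoid the section of `x`
  have hEE : ∑ ξ ∈ members M G, (c ξ : ℚ) ^ 2 / (d ξ) * (b ξ) - (ε : ℚ) * (h₀ : ℚ) ^ 2 / D₀ = 0 := by
    have hzero : ∀ w : G, ∑ ξ ∈ members M G,
        (ξ : G → ℂ) (w⁻¹ * u * w * u) * conj ((ξ : G → ℂ) (F.ι x)) = 0 := by
      intro w
      obtain ⟨t, ht⟩ := exists_pPart (p := 2) Nat.prime_two (w⁻¹ * u * w * u)
      rw [sum_section hK hM ht (F.ι_mem x) (F.ι_ne_one hx1), if_neg (hxu t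
        (sq_ppart_mul hF hu2 (by
          rw [show w⁻¹ * u * w = MulAut.conj w⁻¹ u by simp, ← map_pow, hu2, map_one]) ht))]
    have h : (Nat.card G : ℂ) * ∑ ξ ∈ members M G,
        (c ξ : ℂ) ^ 2 / (d ξ : ℂ) * conj ((ξ : G → ℂ) (F.ι x)) = 0 := by
      rw [Finset.mul_sum, Finset.sum_congr rfl (g := fun ξ : Cfsg.IrrCharacter G =>
        ∑ w : G, (ξ : G → ℂ) (w⁻¹ * u * w * u) * conj ((ξ : G → ℂ) (F.ι x)))
        fun (ξ : Cfsg.IrrCharacter G) hξ => by
          rw [← Finset.sum_mul, sum_char_conj_mul, hvu ξ hξ, hv1 ξ hξ]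
          ring, Finset.sum_comm]
      exact Finset.sum_eq_zero fun w _ => hzero w
    have h' := (mul_eq_zero.1 h).resolve_left (Nat.cast_ne_zero.2 Nat.card_pos.ne')
    rw [hpair (fun ξ => (c ξ : ℂ) ^ 2 / (d ξ : ℂ)) ((h₀ : ℂ) ^ 2 / (D₀ : ℂ))
      (fun θ hθ => by rw [hceq θ hθ, hdeq θ hθ])] at h'
    refine Rat.cast_injective (α := ℂ) ?_
    push_cast
    linear_combination h'
  -- the principal character
  have hoB : oneIrr G ∈ members M G := mem_members.2 (oneIrr_mem (M := M))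
  have hno : oneIrr G ∉ (lin F).image Fam.chi := fun h => by
    obtain ⟨θ, hθ, e⟩ := Finset.mem_image.1 h
    exact Fam.ne_one θ (mem_lin.1 hθ) e
  have hres1 : F.res (oneIrr G : G → ℂ) = (oneIrr F.K : F.K → ℂ) := rfl
  have hN1 : ∀ θ, (N θ (oneIrr G) : ℂ) = if oneIrr F.K = θ then 1 else 0 := fun θ => by
    rw [← hN, hres1, CharCore.classInner_irr]
  have hm1 : m (oneIrr G) = 1 := by
    have h := hN1 (oneIrr F.K)
    rw [if_pos rfl] at h
    simp only [m]
    exact_mod_cast h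
  have ha1 : a (oneIrr G) = 0 := by
    have h := hN1 θ₀
    rw [if_neg fun e => ne_oneIrr_of_lin hθ₀ e.symm, Nat.cast_eq_zero] at h
    have hne : oneIrr G ≠ Fam.chi θ₀ := fun e => Fam.ne_one θ₀ (mem_lin.1 hθ₀) e.symm
    simp only [a, h, if_neg hne, Nat.cast_zero, mul_zero, sub_zero]
  have hco : c (oneIrr G) = 1 := by
    have h := hvu _ hoB
    simp only [coe_oneIrr] at h
    exact_mod_cast h.symm
  have hdo : d (oneIrr G) = 1 := by
    have h := hv1 _ hoB
    simp only [coe_oneIrr] at h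
    exact_mod_cast h.symm
  have hcardI : ((lin F).image Fam.chi).card = 5 := by
    have h := Finset.card_eq_sum_card_image Fam.chi (lin F)
    rw [card_lin hF, Finset.sum_congr rfl (g := fun _ => 3) fun ξ hξ => by
      obtain ⟨θ, hθ, rfl⟩ := Finset.mem_image.1 hξ
      exact (congrArg Finset.card (hschi θ hθ)).trans (card_fibre hF hθ),
      Finset.sum_const, smul_eq_mul] at h
    omega
  refine false_of_sums (members M G) ((lin F).image Fam.chi) (oneIrr G) b c d Fam.ε_eq hoB hno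
    (fun ξ hξ => by
      obtain ⟨θ, hθ, rfl⟩ := Finset.mem_image.1 hξ
      exact hmem θ hθ) hcardI (by simp only [b]; omega) hco hdo
    (fun ξ hξ => by
      obtain ⟨θ, hθ, rfl⟩ := Finset.mem_image.1 hξ
      exact hbeq θ hθ)
    (fun ξ hξ => by
      obtain ⟨θ, hθ, rfl⟩ := Finset.mem_image.1 hξ
      exact hceq θ hθ)
    (fun ξ hξ => by
      obtain ⟨θ, hθ, rfl⟩ := Finset.mem_image.1 hξ
      exact hdeq θ hθ)
    (fun ξ _ hξ => ?_) ?_ (fun ξ hξ hne => ?_) hP hNN hBB hEE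
  · have he : s ξ = ∅ := Finset.filter_eq_empty_iff.2 fun θ hθ e =>
      hξ (Finset.mem_image.2 ⟨θ, hθ, e⟩)
    refine ⟨4 * a ξ - κ ξ, ?_⟩
    simp only [c, b, he, Finset.card_empty, Nat.cast_zero]
    ring
  · refine ⟨4 * a (Fam.chi θ₀) - κ (Fam.chi θ₀), ?_⟩
    simp only [hb₀def, hh₀def, c, b, hschi θ₀ hθ₀, card_fibre hF hθ₀]
    push_cast
    ring
  · have hκ : κ ξ ≠ 0 := fun e => hne (eq_oneIrr_of_apply_eq hsimple hu1 (by
      rw [hvu ξ hξ, hv1 ξ hξ]
      simp [d, e]))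
    have hκ0 : 0 ≤ κ ξ := Int.natCast_nonneg _
    simp only [d]
    omega

end Cfsg.Agent.PComp40
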