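import Cfsg.Agent.PComp40.Group
import Cfsg.Agent.U3Sylow69.Kill
import Cfsg.Agent.CISylow69.Main
import Cfsg.Agent.Bender27.Main
import Cfsg.Agent.BenderUse45.Consumers
import Cfsg.Agent.Classification.FourGroup
import Cfsg.Agent.Lib.Unitary.Center
import Cfsg.Agent.S1141
import Cfsg.Agent.UnbalTriple.Scn3

/-!
# The case `p = 2` with large rank: the Suzuki groups
-/

set_option autoImplicit false
set_option linter.style.haveILetI false
set_option linter.unusedSectionVars false

namespace Cfsg.Agent.PComp40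

open Subgroup CISylow69
open scoped commutatorElement

universe u

variable {G : Type u} [Group G] [Finite G] {P : Sylow 2 G}

/-- The centre of `P` contains two involutions. -/
theorem exists_two_isV (h : Hyp P) :
    ∃ a b, IsV P a ∧ IsV P b ∧ a ≠ b := by
  haveI : Fact (Nat.Prime 2) := ⟨Nat.prime_two⟩
  have hne : (P : Subgroup G) ≠ ⊥ := by
    intro e
    refine h.not_normal ?_
    rw [e]
    infer_instance
  haveI : Nontrivial ↥(P : Subgroup G) := (nontrivial_iff_ne_bot _).2 hne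
  set Z := (center ↥(P : Subgroup G)).map (P : Subgroup G).subtype with hZ
  have hZne : Z ≠ ⊥ := by
    rw [hZ, Ne, map_eq_bot_iff_of_injective _ (subtype_injective _)]
    exact (nontrivial_iff_ne_bot _).1 P.isPGroup'.center_nontrivial
  have hZmem : ∀ x ∈ Z, x ∈ (P : Subgroup G) ∧ ∀ y ∈ (P : Subgroup G), x * y = y * x := by
    rintro _ ⟨x, hx, rfl⟩
    exact ⟨x.2, fun y hy => congrArg Subtype.val (mem_center_iff.1 hx ⟨y, hy⟩).symm⟩
  obtain ⟨a, haZ, ha⟩ := exists_inv_of_ne_bot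
    (P.isPGroup'.to_le (map_subtype_le _) : IsPGroup 2 Z) hZne
  have hVa : IsV P a := ⟨(hZmem a haZ).1, ha, (hZmem a haZ).2⟩
  by_contra hall
  have huniq : ∀ b, IsV P b → b = a := fun b hb => by_contra fun hb' =>
    hall ⟨b, a, hb, hVa, hb'⟩
  have htop : (⊤ : Subgroup ↥(P : Subgroup G)) ≤ commutator ↥(P : Subgroup G) := by
    rintro ⟨x, hx⟩ -
    obtain ⟨n, hn, y, hy, he⟩ := h.exists_commutator hx
    have hna : n * a * n⁻¹ = a := huniq _ ⟨(mem_normalizer_iff.1 hn a).1 hVa.1,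
      by rw [TwoFusionB.orderOf_conj_eq, ha], fun z hz => by
        have h1 := hVa.2.2 _ ((mem_normalizer_iff''.1 hn z).1 hz)
        calc n * a * n⁻¹ * z = n * (a * (n⁻¹ * z * n)) * n⁻¹ := by group
          _ = n * (n⁻¹ * z * n * a) * n⁻¹ := by rw [h1]
          _ = z * (n * a * n⁻¹) := by group⟩
    obtain ⟨c, hc, hci⟩ := exists_inner (h.cent_inter hn hVa.1 (TwoFusionB.ne_one_of_inv ha)
      (mul_inv_eq_iff_eq_mul.1 hna))
    rw [hci y hy] at he
    have : (⟨x, hx⟩ : ↥(P : Subgroup G)) =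
        ⁅(⟨c, hc⟩ : ↥(P : Subgroup G)), (⟨y, hy⟩ : ↥(P : Subgroup G))⁆ := by
      refine Subtype.ext ?_
      show x = c * y * c⁻¹ * y⁻¹
      exact he.symm
    rw [this, _root_.commutator_def]
    exact commutator_mem_commutator (mem_top _) (mem_top _)
  haveI := P.isPGroup'.isNilpotent
  exact (Group.IsSolvable.commutator_lt_top_of_nontrivial ↥(P : Subgroup G)).not_ge htop

/-- Two central involutions and the failure of `SmallRank` give rank three. -/
theorem not_pRankLE_two {a b : G} (ha : IsV P a) (hb : IsV P b) (hab : a ≠ b)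
    (hs : ¬ SmallRank P) : ¬ Cfsg.PRankLE 2 2 G := by
  haveI : Fact (Nat.Prime 2) := ⟨Nat.prime_two⟩
  have haa := TwoFusionB.sq_eq_one_of_inv ha.2.1
  have hbb := TwoFusionB.sq_eq_one_of_inv hb.2.1
  have ha1 := TwoFusionB.ne_one_of_inv ha.2.1
  have hb1 := TwoFusionB.ne_one_of_inv hb.2.1
  have hab1 : a * b ≠ 1 := fun e => hab (by
    calc a = a * (b * b) := by rw [hbb, mul_one]
      _ = a * b * b := (mul_assoc _ _ _).symm
      _ = b := by rw [e, one_mul])
  have hfour : ({1, a, b, a * b} : Set G).ncard = 4 := by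
    rw [Set.ncard_insert_of_notMem (by simp [ha1.symm, hb1.symm, hab1.symm]),
      Set.ncard_insert_of_notMem (by simp [hab, hb1]),
      Set.ncard_pair (by simp [ha1])]
  obtain ⟨x, hxP, hxx, hxn⟩ : ∃ x ∈ (P : Subgroup G), x * x = 1 ∧
      x ∉ ({1, a, b, a * b} : Set G) := by
    by_contra hall
    push Not at hall
    have habm : a * b ∈ (P : Subgroup G) := mul_mem ha.1 hb.1
    have habc : ∀ y ∈ (P : Subgroup G), a * b * y = y * (a * b) := fun y hy => by
      rw [mul_assoc, hb.2.2 y hy, ← mul_assoc, ha.2.2 y hy, mul_assoc]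
    have hab2 : a * b * (a * b) = 1 := by
      calc a * b * (a * b) = a * (b * a) * b := by group
        _ = a * a * (b * b) := by rw [← ha.2.2 b hb.1]; group
        _ = 1 := by rw [haa, hbb, mul_one]
    have hset : {x : G | x ∈ (P : Subgroup G) ∧ x ^ 2 = 1} = ({1, a, b, a * b} : Set G) := by
      ext x
      constructor
      · rintro ⟨h1, h2⟩
        exact hall x h1 (by rwa [← sq])
      · rintro (rfl | rfl | rfl | rfl)
        · exact ⟨one_mem _, one_pow 2⟩
        · exact ⟨ha.1, by rw [sq, haa]⟩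
        · exact ⟨hb.1, by rw [sq, hbb]⟩
        · exact ⟨habm, by rw [sq, hab2]⟩
    refine hs ⟨fun x hx hx2 => ?_, ?_⟩
    · rcases hall x hx (TwoFusionB.sq_eq_one_of_inv hx2) with rfl | rfl | rfl | rfl
      · simp at hx2
      · exact ha
      · exact hb
      · exact ⟨habm, hx2, habc⟩
    · have h := hfour
      rw [← hset, ← Nat.card_coe_set_eq] at h
      exact h
  intro h2
  let E := closure ({a, b, x} : Set G)
  have hS : ∀ u ∈ ({a, b, x} : Set G), ∀ v ∈ ({a, b, x} : Set G), u * v = v * u := by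
    intro u hu v hv
    rcases hu with rfl | rfl | rfl <;> rcases hv with rfl | rfl | rfl
    · rfl
    · exact ha.2.2 _ hb.1
    · exact ha.2.2 _ hxP
    · exact hb.2.2 _ ha.1
    · rfl
    · exact hb.2.2 _ hxP
    · exact (ha.2.2 _ hxP).symm
    · exact (hb.2.2 _ hxP).symm
    · rfl
  haveI hEc : IsMulCommutative ↥E := isMulCommutative_closure hS
  have hEsq : ∀ g ∈ E, g ^ 2 = 1 := by
    intro g hg
    induction hg using closure_induction with
    | mem g hg =>
      rcases hg with rfl | rfl | rfl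
      · rw [sq, haa]
      · rw [sq, hbb]
      · rw [sq, hxx]
    | one => exact one_pow 2
    | mul u v hu hv h1 h2 =>
      have hc : Commute u v := congrArg Subtype.val (hEc.is_comm.comm (⟨u, hu⟩ : E) ⟨v, hv⟩)
      rw [hc.mul_pow, h1, h2, one_mul]
    | inv u hu h1 => rw [inv_pow, h1, inv_one]
  have hsub : insert x ({1, a, b, a * b} : Set G) ⊆ (E : Set G) := by
    have hm : ∀ u ∈ ({a, b, x} : Set G), u ∈ E := fun u hu => subset_closure hu
    rintro u (rfl | rfl | rfl | rfl | rfl)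
    · exact hm _ (by simp)
    · exact one_mem _
    · exact hm _ (by simp)
    · exact hm _ (by simp)
    · exact mul_mem (hm _ (by simp)) (hm _ (by simp))
  have h5 := Set.ncard_le_ncard hsub
  rw [Set.ncard_insert_of_notMem hxn, hfour, ← Nat.card_coe_set_eq] at h5
  have := h2 E hEc hEsq
  change 4 + 1 ≤ Nat.card E at h5
  omega

/-- A Sylow 2-subgroup with two central involutions is four-connected. -/
theorem isFourConnected {a b : G} (ha : IsV P a) (hb : IsV P b) (hab : a ≠ b) :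
    Cfsg.IsFourConnected ↥(P : Subgroup G) := by
  let Z : Subgroup ↥(P : Subgroup G) :=
    { carrier := {x | x ∈ center ↥(P : Subgroup G) ∧ x ^ 2 = 1}
      one_mem' := ⟨one_mem _, one_pow 2⟩
      mul_mem' := fun {x y} hx hy => ⟨mul_mem hx.1 hy.1, by
        rw [Commute.mul_pow (show Commute x y from (mem_center_iff.1 hy.1 x)), hx.2, hy.2, one_mul]⟩
      inv_mem' := fun {x} hx => ⟨inv_mem hx.1, by rw [inv_pow, hx.2, inv_one]⟩ }
  have hm : ∀ {c : G} (hc : IsV P c), (⟨c, hc.1⟩ : ↥(P : Subgroup G)) ∈ Z := fun {c} hc =>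
    ⟨mem_center_iff.2 fun y => Subtype.ext (hc.2.2 y y.2).symm,
      Subtype.ext (by simpa [sq] using TwoFusionB.sq_eq_one_of_inv hc.2.1)⟩
  have h3 : 2 < Nat.card Z := by
    have hsub : ({1, ⟨a, ha.1⟩, ⟨b, hb.1⟩} : Set ↥(P : Subgroup G)) ⊆ (Z : Set ↥(P : Subgroup G)) := by
      rintro c (rfl | rfl | rfl)
      · exact one_mem Z
      · exact hm ha
      · exact hm hb
    have h := Set.ncard_le_ncard hsub
    rw [Set.ncard_eq_three.2 ⟨1, ⟨a, ha.1⟩, ⟨b, hb.1⟩,
      fun e => TwoFusionB.ne_one_of_inv ha.2.1 (congrArg Subtype.val e).symm,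
      fun e => TwoFusionB.ne_one_of_inv hb.2.1 (congrArg Subtype.val e).symm,
      fun e => hab (congrArg Subtype.val e), rfl⟩, ← Nat.card_coe_set_eq] at h
    exact h
  obtain ⟨W, hW, hWZ⟩ := Classification.exists_isKleinFour_le (A := Z) (fun x hx => hx.2) h3
  intro U V hU hV
  exact (Relation.ReflTransGen.single
      ⟨hU, hW, fun u _ w hw => mem_center_iff.1 (hWZ hw).1 u⟩).trans
    (Relation.ReflTransGen.single
      ⟨hW, hV, fun w hw v _ => (mem_center_iff.1 (hWZ hw).1 v).symm⟩)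

/-- The centralisers of the involutions are solvable. -/
theorem isSolvable_centralizer (h : Hyp P) {j : G} (hj : orderOf j = 2) :
    Group.IsSolvable ↥(centralizer ({j} : Set G)) := by
  haveI : Fact (Nat.Prime 2) := ⟨Nat.prime_two⟩
  obtain ⟨g, hg⟩ := U3Sylow69.exists_conj_mem P
    (U3Sylow69.isPGroup_zpowers_of_sq (TwoFusionB.sq_eq_one_of_inv hj))
  have hgj := hg j (mem_zpowers j)
  obtain ⟨K, hKn, hK2, -, hKi⟩ := h.kernels _ hgj (TwoFusionB.ne_one_of_inv
    ((TwoFusionB.orderOf_conj_eq g j).trans hj))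
  haveI := hKn
  obtain ⟨k, hk⟩ := (P.isPGroup'.to_le inf_le_left :
    IsPGroup 2 ↥((P : Subgroup G) ⊓ centralizer ({g * j * g⁻¹} : Set G))).exists_card_eq
  have hQ : IsPGroup 2 (↥(centralizer ({g * j * g⁻¹} : Set G)) ⧸ K) :=
    IsPGroup.of_card (n := k) (by rw [← index_eq_card, hKi, hk])
  haveI := hQ.isNilpotent
  haveI : Group.IsSolvable ↥K := PF14.feitThompson _
    (by rwa [← Nat.not_even_iff_odd, even_iff_two_dvd])
  have hsol : Group.IsSolvable ↥(centralizer ({g * j * g⁻¹} : Set G)) :=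
    Group.isSolvable_of_ker_le_range K.subtype (QuotientGroup.mk' K)
      (by rw [QuotientGroup.ker_mk', range_subtype])
  have e : (centralizer ({g * j * g⁻¹} : Set G)).map (MulAut.conj g⁻¹).toMonoidHom =
      centralizer ({j} : Set G) := by
    rw [UnbalTriple.map_centralizer_singleton]
    congr 1
    simp [mul_assoc]
  rw [← e]
  exact Group.isSolvable_of_surjective ((MulAut.conj g⁻¹).toMonoidHom.subgroupMap_surjective _)

/-- The centraliser of an involution of `P` lies in `P`. -/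
theorem centralizer_le (h : Hyp P) (h3 : ¬ Cfsg.PRankLE 2 2 G)
    (h4 : Cfsg.IsFourConnected ↥(P : Subgroup G)) {t : G} (htP : t ∈ (P : Subgroup G))
    (ht : orderOf t = 2) : centralizer ({t} : Set G) ≤ (P : Subgroup G) := by
  haveI : Fact (Nat.Prime 2) := ⟨Nat.prime_two⟩
  obtain ⟨W, D⟩ := BC85.Balance.exists_data_of_connected
    (fun j hj => BC85.Balance.isPConstrained_of_solvable (isSolvable_centralizer h hj)) h3 P h4
  have hc := D.cpc_eq_bot (BenderUse45.benderCore_of Bender27.benderSplit) h.core ht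
  rw [Cfsg.centralizerPPrimeCore, map_eq_bot_iff_of_injective _ (subtype_injective _)] at hc
  obtain ⟨K, hKn, hK2, -, hKi⟩ := h.kernels t htP (TwoFusionB.ne_one_of_inv ht)
  have hK : K = ⊥ := le_bot_iff.1 (hc ▸ (show K ≤ Cfsg.pPrimeCore 2 _ from
    le_sSup ⟨hKn, (Nat.prime_two.coprime_iff_not_dvd.2 hK2).symm⟩))
  rw [hK, index_bot] at hKi
  exact inf_eq_right.1 (eq_of_le_of_card_ge inf_le_right hKi.le)

/-- An element moving a nontrivial element of `P` into `P` normalises `P`. -/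
theorem mem_normalizer_of_conj (h : Hyp P)
    (hC : ∀ t ∈ (P : Subgroup G), orderOf t = 2 → centralizer ({t} : Set G) ≤ (P : Subgroup G))
    {x g : G} (hx : x ∈ (P : Subgroup G)) (hx1 : x ≠ 1) (hgx : g * x * g⁻¹ ∈ (P : Subgroup G)) :
    g ∈ normalizer ((P : Subgroup G) : Set G) := by
  haveI : Fact (Nat.Prime 2) := ⟨Nat.prime_two⟩
  obtain ⟨t, htx, ht⟩ := exists_inv_of_ne_bot
    (P.isPGroup'.to_le (zpowers_le.2 hx) : IsPGroup 2 ↥(zpowers x))
    (by rwa [Ne, zpowers_eq_bot])
  obtain ⟨i, rfl⟩ := mem_zpowers_iff.1 htx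
  have hgt : g * x ^ i * g⁻¹ ∈ (P : Subgroup G) := by
    rw [← conj_zpow]
    exact zpow_mem hgx i
  obtain ⟨n, hn, hnt⟩ := h.fusion _ (zpow_mem hx i) _ hgt ⟨g, rfl⟩
  have hc : n⁻¹ * g ∈ centralizer ({x ^ i} : Set G) := mem_centralizer_singleton_iff.2 (by
    calc n⁻¹ * g * x ^ i = n⁻¹ * (g * x ^ i * g⁻¹) * g := by group
      _ = n⁻¹ * (n * x ^ i * n⁻¹) * g := by rw [hnt]
      _ = x ^ i * (n⁻¹ * g) := by group)
  simpa using mul_mem hn (le_normalizer (hC _ (zpow_mem hx i) ht hc))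

/-- The Sylow 2-subgroups meet trivially. -/
theorem inf_eq_bot (hN : ∀ x g : G, x ∈ (P : Subgroup G) → x ≠ 1 → g * x * g⁻¹ ∈ (P : Subgroup G) →
      g ∈ normalizer ((P : Subgroup G) : Set G))
    (S T : Sylow 2 G) (hST : S ≠ T) : (S : Subgroup G) ⊓ T = ⊥ := by
  haveI : Fact (Nat.Prime 2) := ⟨Nat.prime_two⟩
  obtain ⟨a, rfl⟩ := MulAction.exists_smul_eq G P S
  obtain ⟨b, rfl⟩ := MulAction.exists_smul_eq G P T
  rw [eq_bot_iff]
  intro x hx
  rw [mem_bot]
  by_contra hx1
  obtain ⟨h1, h2⟩ := mem_inf.1 hx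
  have e : ∀ c : G, x ∈ ((c • P : Sylow 2 G) : Subgroup G) → c⁻¹ * x * c ∈ (P : Subgroup G) := by
    intro c hc
    rw [Sylow.coe_subgroup_smul] at hc
    obtain ⟨y, hy, rfl⟩ := hc
    have he : c⁻¹ * ((MulAut.conj c) y) * c = y := by simp [mul_assoc]
    exact (show c⁻¹ * ((MulAut.conj c) y) * c ∈ (P : Subgroup G) by rw [he]; exact hy)
  have hn := hN (a⁻¹ * x * a) (b⁻¹ * a) (e a h1)
    (fun he => hx1 (by
      calc x = a * (a⁻¹ * x * a) * a⁻¹ := by group
        _ = 1 := by rw [he, mul_one, mul_inv_cancel]))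
    (by simpa [mul_assoc] using e b h2)
  refine hST ?_
  have := Sylow.smul_eq_iff_mem_normalizer.2 hn
  rw [mul_smul, inv_smul_eq_iff] at this
  exact this

/-- The number of Sylow 2-subgroups is one modulo `|P|`. -/
theorem card_dvd_index_sub_one (hN : ∀ x g : G, x ∈ (P : Subgroup G) → x ≠ 1 →
      g * x * g⁻¹ ∈ (P : Subgroup G) → g ∈ normalizer ((P : Subgroup G) : Set G)) :
    ∃ k : ℕ, (normalizer ((P : Subgroup G) : Set G)).index =
      1 + Nat.card ↥(P : Subgroup G) * k := by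
  classical
  set N := normalizer ((P : Subgroup G) : Set G) with hNdef
  let o : G ⧸ N := ((1 : G) : G ⧸ N)
  have hfix : ∀ p : ↥(P : Subgroup G), p • o = o := fun p => by
    show (((p : G) * 1 : G) : G ⧸ N) = _
    rw [mul_one]
    have hp : (p : G) ∈ N := le_normalizer p.2
    exact QuotientGroup.eq.2 (by simpa using hp)
  let X : SubMulAction ↥(P : Subgroup G) (G ⧸ N) :=
    { carrier := {z | z ≠ o}
      smul_mem' := fun p z hz he => hz (by
        rw [← inv_smul_smul p z, he, ← hfix p, inv_smul_smul, hfix]) }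
  have hfree : ∀ z : X, MulAction.stabilizer ↥(P : Subgroup G) z = ⊥ := by
    rintro ⟨z, hz⟩
    rw [eq_bot_iff]
    intro p hp
    induction z using QuotientGroup.induction_on with
    | H g =>
      have h1 : (((p : G) * g : G) : G ⧸ N) = (g : G ⧸ N) := congrArg Subtype.val hp
      have h2 : ((p : G) * g)⁻¹ * g ∈ N := QuotientGroup.eq.1 h1
      rw [mem_bot]
      by_contra hp1
      refine hz ((QuotientGroup.eq.2 ?_).symm)
      have h3 : g⁻¹ * (p : G) * g ∈ N := by
        have := inv_mem h2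
        simpa [mul_assoc] using this
      have h4 : g⁻¹ * (p : G) * g ∈ (P : Subgroup G) := by
        haveI : Fact (Nat.Prime 2) := ⟨Nat.prime_two⟩
        obtain ⟨R, hR⟩ := ((P.isPGroup'.to_le (zpowers_le.2 p.2) :
          IsPGroup 2 ↥(zpowers (p : G))).map (MulAut.conj g⁻¹).toMonoidHom
            |>.to_sup_of_normal_right' P.isPGroup' (by
              rintro _ ⟨y, hy, rfl⟩
              obtain ⟨i, rfl⟩ := mem_zpowers_iff.1 hy
              show g⁻¹ * (p : G) ^ i * g⁻¹⁻¹ ∈ _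
              rw [← conj_zpow, inv_inv]
              exact zpow_mem h3 i)).exists_le_sylow
        have hm : g⁻¹ * (p : G) * g ∈ (R : Subgroup G) :=
          hR (mem_sup_left ⟨p, mem_zpowers _, by simp⟩)
        rwa [← sylow_eq_of_le (le_sup_right.trans hR)] at hm
      have hn := hN (p : G) g⁻¹ p.2 (fun e => hp1 (Subtype.ext e)) (by rwa [inv_inv])
      simpa using inv_mem hn
  refine ⟨Nat.card (Quotient (MulAction.orbitRel ↥(P : Subgroup G) X)), ?_⟩
  have h1 := Nat.card_congr (MulAction.selfEquivOrbitsQuotientProd'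
    (φ := Quotient.out) Quotient.out_eq' hfree)
  rw [Nat.card_prod] at h1
  have h2 : Nat.card ({o}ᶜ : Set (G ⧸ N)) = Nat.card X := rfl
  have h3 := Set.ncard_add_ncard_compl ({o} : Set (G ⧸ N))
  rw [Set.ncard_singleton, ← Nat.card_coe_set_eq, h2, h1] at h3
  rw [index_eq_card, ← h3, mul_comm]

/-- The order of the normaliser of `P`. -/
theorem card_normalizer
    (hC : ∀ t ∈ (P : Subgroup G), orderOf t = 2 → centralizer ({t} : Set G) ≤ (P : Subgroup G))
    (hd : SylData (P : Subgroup G)) :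
    Nat.card ↥(normalizer ((P : Subgroup G) : Set G)) =
      Nat.card ↥(P : Subgroup G) * (Suz27.qOf (P : Subgroup G) - 1) := by
  classical
  set N := normalizer ((P : Subgroup G) : Set G) with hNdef
  obtain ⟨a, haP, -, -, ha, -, -⟩ := hd.two
  have hcen : centralizer ({a} : Set G) = (P : Subgroup G) :=
    le_antisymm (hC a haP ha) fun s hs => mem_centralizer_singleton_iff.2
      (hd.central a haP (TwoFusionB.sq_eq_one_of_inv ha) s hs)
  let I : Set G := {t | t ∈ (P : Subgroup G) ∧ orderOf t = 2}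
  let f : ↥N ⧸ (P : Subgroup G).subgroupOf N → I := Quotient.lift
    (fun n : ↥N => (⟨(n : G) * a * (n : G)⁻¹, (mem_normalizer_iff.1 n.2 a).1 haP,
      (TwoFusionB.orderOf_conj_eq _ a).trans ha⟩ : I)) (by
      intro n m hnm
      have h0 : n⁻¹ * m ∈ (P : Subgroup G).subgroupOf N := QuotientGroup.leftRel_apply.1 hnm
      have h1 : (n : G)⁻¹ * (m : G) ∈ (P : Subgroup G) := h0
      rw [← hcen, mem_centralizer_singleton_iff] at h1
      refine Subtype.ext ?_
      calc (n : G) * a * (n : G)⁻¹ = n * (a * ((n : G)⁻¹ * m)) * (m : G)⁻¹ := by group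
        _ = n * ((n : G)⁻¹ * m * a) * (m : G)⁻¹ := by rw [h1]
        _ = m * a * (m : G)⁻¹ := by group)
  have hf : Function.Bijective f := by
    constructor
    · intro z w
      induction z using Quotient.inductionOn with
      | _ n =>
        induction w using Quotient.inductionOn with
        | _ m =>
          intro he
          have he' : (n : G) * a * (n : G)⁻¹ = (m : G) * a * (m : G)⁻¹ := congrArg Subtype.val he
          refine Quotient.sound (QuotientGroup.leftRel_apply.2 ?_)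
          show (n : G)⁻¹ * (m : G) ∈ (P : Subgroup G)
          rw [← hcen, mem_centralizer_singleton_iff]
          calc (n : G)⁻¹ * m * a = (n : G)⁻¹ * (m * a * (m : G)⁻¹) * m := by group
            _ = (n : G)⁻¹ * (n * a * (n : G)⁻¹) * m := by rw [he']
            _ = a * ((n : G)⁻¹ * m) := by group
    · rintro ⟨t, htP, ht⟩
      obtain ⟨g, hg, hgt⟩ := hd.transitive a haP t htP ha ht
      have hgN : g ∈ N := by
        rw [hNdef, mem_normalizer_iff_map_conj_eq]
        refine eq_of_le_of_card_ge ?_ (by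
          rw [card_map_of_injective (MulAut.conj g).injective])
        rintro _ ⟨s, hs, rfl⟩
        exact hg s hs
      exact ⟨Quotient.mk'' ⟨g, hgN⟩, Subtype.ext hgt⟩
  have hI : Nat.card I = Suz27.qOf (P : Subgroup G) - 1 := by
    have hins : insert 1 I = {x : G | x ∈ (P : Subgroup G) ∧ x * x = 1} := by
      ext x
      constructor
      · rintro (rfl | hx)
        · exact ⟨one_mem _, one_mul 1⟩
        · exact ⟨hx.1, TwoFusionB.sq_eq_one_of_inv hx.2⟩
      · rintro ⟨hx, hxx⟩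
        by_cases hx1 : x = 1
        · exact Or.inl hx1
        · exact Or.inr ⟨hx, CISylow69.orderOf_eq_two_of hx1 hxx⟩
    have h1 : (insert 1 I : Set G).ncard = I.ncard + 1 :=
      Set.ncard_insert_of_notMem fun h => by simpa using h.2
    rw [hins] at h1
    rw [Nat.card_coe_set_eq]
    have h2 : Suz27.qOf (P : Subgroup G) = {x : G | x ∈ (P : Subgroup G) ∧ x * x = 1}.ncard :=
      Nat.card_coe_set_eq _
    omega
  rw [card_eq_card_quotient_mul_card_subgroup ((P : Subgroup G).subgroupOf N),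
    Nat.card_congr (Equiv.ofBijective f hf), hI,
    Nat.card_congr (subgroupOfEquivOfLe (le_normalizer (H := (P : Subgroup G)))).toEquiv, mul_comm]

/-- The subgroup generated by the 2-elements is the whole group. -/
theorem pElementClosure_eq_top (hnn : ¬ (P : Subgroup G).Normal)
    (hC : ∀ t ∈ (P : Subgroup G), orderOf t = 2 → centralizer ({t} : Set G) ≤ (P : Subgroup G))
    (hTI : ∀ S T : Sylow 2 G, S ≠ T → (S : Subgroup G) ⊓ T = ⊥)
    {a : G} (haP : a ∈ (P : Subgroup G)) (ha : orderOf a = 2)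
    (hsimp : IsSimpleGroup ↥(Cfsg.pElementClosure 2 (⊤ : Subgroup G))) :
    Cfsg.pElementClosure 2 (⊤ : Subgroup G) = ⊤ := by
  haveI : Fact (Nat.Prime 2) := ⟨Nat.prime_two⟩
  set E := Cfsg.pElementClosure 2 (⊤ : Subgroup G) with hE
  haveI hEn : E.Normal := pElementClosure_normal G
  have hPE : (P : Subgroup G) ≤ E := sylow_le_pElementClosure P
  have hTI' : ∀ S T : Sylow 2 ↥E, S ≠ T → (S : Subgroup ↥E) ⊓ T = ⊥ := by
    intro S T hST
    obtain ⟨S', hS'⟩ := S.exists_comap_subtype_eq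
    obtain ⟨T', hT'⟩ := T.exists_comap_subtype_eq
    have hne : S' ≠ T' := fun e => hST (Sylow.ext (by rw [← hS', ← hT', e]))
    rw [← hS', ← hT', ← comap_inf, hTI S' T' hne, MonoidHom.comap_bot,
      MonoidHom.ker_eq_bot _ (subtype_injective E)]
  have hmany : ∃ T : Sylow 2 ↥E, T ≠ P.subtype hPE := by
    by_contra hall
    push Not at hall
    have hn : ((P.subtype hPE : Sylow 2 ↥E) : Subgroup ↥E).Normal := by
      rw [← normalizer_eq_top_iff, eq_top_iff]
      exact fun g _ => Sylow.smul_eq_iff_mem_normalizer.1 (hall _)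
    rcases hsimp.eq_bot_or_eq_top_of_normal _ hn with hb | ht
    · have : (⟨a, hPE haP⟩ : ↥E) ∈ ((P.subtype hPE : Sylow 2 ↥E) : Subgroup ↥E) := haP
      rw [hb, mem_bot] at this
      exact TwoFusionB.ne_one_of_inv ha (congrArg Subtype.val this)
    · refine hnn ((le_antisymm hPE fun g hg => ?_ : (P : Subgroup G) = E) ▸ hEn)
      have : (⟨g, hg⟩ : ↥E) ∈ ((P.subtype hPE : Sylow 2 ↥E) : Subgroup ↥E) := ht ▸ mem_top _
      exact this
  have hse := stronglyEmbedded_of_ti hTI' (P.subtype hPE) hmany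
  rw [eq_top_iff]
  intro g _
  have hgE : g * a * g⁻¹ ∈ E := hEn.conj_mem a (hPE haP) g
  obtain ⟨⟨e, heE⟩, hec⟩ := isConj_iff.1 (TwoFusionB.isConj_involutions hse
    (a := (⟨a, hPE haP⟩ : ↥E)) (b := ⟨g * a * g⁻¹, hgE⟩)
    (by rw [← Subgroup.orderOf_coe]; exact ha)
    (by rw [← Subgroup.orderOf_coe]; exact (TwoFusionB.orderOf_conj_eq g a).trans ha))
  have he : e * a * e⁻¹ = g * a * g⁻¹ := congrArg Subtype.val hec
  have hc : e⁻¹ * g ∈ centralizer ({a} : Set G) := mem_centralizer_singleton_iff.2 (by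
    calc e⁻¹ * g * a = e⁻¹ * (g * a * g⁻¹) * g := by group
      _ = e⁻¹ * (e * a * e⁻¹) * g := by rw [he]
      _ = a * (e⁻¹ * g) := by group)
  simpa using mul_mem heE (hPE (hC a haP ha hc))

/-- The numerical contradiction for the unitary groups. -/
theorem no_unitary {n k q c : ℕ} (hn : 2 ≤ n) (hq : q = 2 ^ n)
    (hc : c = (q - 1) * q ^ 3 * (1 + q ^ 3 * k))
    (hcard : Nat.gcd 3 (q + 1) * ((q + 1) * c) =
      q ^ 3 * ((q + 1) * ((q ^ 2 - 1) * (q ^ 3 + 1)))) : False := by
  have h4 : 4 ≤ q := by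
    rw [hq]
    calc (4 : ℕ) = 2 ^ 2 := by norm_num
      _ ≤ 2 ^ n := Nat.pow_le_pow_right (by norm_num) hn
  have hd3 : Nat.gcd 3 (q + 1) ≤ 3 := Nat.le_of_dvd (by norm_num) (Nat.gcd_dvd_left _ _)
  have hd1 : 1 ≤ Nat.gcd 3 (q + 1) := Nat.gcd_pos_of_pos_left _ (by norm_num)
  generalize Nat.gcd 3 (q + 1) = d at hcard hd3 hd1
  have hsq : q ^ 2 - 1 = (q - 1) * (q + 1) := by
    have := Nat.sq_sub_sq q 1
    rw [one_pow] at this
    rw [this, mul_comm]
  rw [hc, hsq] at hcard
  have h1 : d * (1 + q ^ 3 * k) = (q + 1) * (q ^ 3 + 1) := by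
    refine Nat.eq_of_mul_eq_mul_left (show 0 < (q + 1) * ((q - 1) * q ^ 3) from ?_) ?_
    · exact Nat.mul_pos (by omega) (Nat.mul_pos (by omega) (pow_pos (by omega) 3))
    · calc (q + 1) * ((q - 1) * q ^ 3) * (d * (1 + q ^ 3 * k))
          = d * ((q + 1) * ((q - 1) * q ^ 3 * (1 + q ^ 3 * k))) := by ring
        _ = q ^ 3 * ((q + 1) * ((q - 1) * (q + 1) * (q ^ 3 + 1))) := hcard
        _ = _ := by ring
  have h2 : d + q ^ 3 * (d * k) = q + 1 + q ^ 3 * (q + 1) := by
    calc d + q ^ 3 * (d * k) = d * (1 + q ^ 3 * k) := by ring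
      _ = (q + 1) * (q ^ 3 + 1) := h1
      _ = _ := by ring
  have h3 : q + 1 < q ^ 3 := by
    calc q + 1 < q * q := by nlinarith
      _ ≤ q * q * q := Nat.le_mul_of_pos_right _ (by omega)
      _ = q ^ 3 := by ring
  have h4' := congrArg (· % q ^ 3) h2
  simp only [Nat.add_mul_mod_self_left] at h4'
  rw [Nat.mod_eq_of_lt h3, Nat.mod_eq_of_lt (by omega)] at h4'
  omega

/-- A Sylow 2-subgroup of rank at least three: the group is a Suzuki group. -/
theorem Hyp.isoSuzuki_of_big (P : Sylow 2 G) (h : Hyp P) (hs : ¬ SmallRank P)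
    (hd : ¬ (Cfsg.IsElementaryAbelian 2 (P : Subgroup G) ∧
      ∀ x ∈ (P : Subgroup G), ∀ y ∈ (P : Subgroup G), x ≠ 1 → y ≠ 1 → ∃ g : G, g * x * g⁻¹ = y)) :
    Cfsg.Lie.IsoSuzuki G := by
  classical
  haveI : Fact (Nat.Prime 2) := ⟨Nat.prime_two⟩
  obtain ⟨a, b, ha, hb, hab⟩ := exists_two_isV h
  have h3 := not_pRankLE_two ha hb hab hs
  have h4 := isFourConnected ha hb hab
  have hC : ∀ t ∈ (P : Subgroup G), orderOf t = 2 → centralizer ({t} : Set G) ≤ (P : Subgroup G) :=
    fun t htP ht => centralizer_le h h3 h4 htP ht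
  have hN : ∀ x g : G, x ∈ (P : Subgroup G) → x ≠ 1 → g * x * g⁻¹ ∈ (P : Subgroup G) →
      g ∈ normalizer ((P : Subgroup G) : Set G) :=
    fun x g hx hx1 hgx => mem_normalizer_of_conj h hC hx hx1 hgx
  have hTI := inf_eq_bot hN
  have hmany : ∃ T : Sylow 2 G, T ≠ P := by
    by_contra hall
    push Not at hall
    exact h.not_normal (normalizer_eq_top_iff.1 (eq_top_iff.2 fun g _ =>
      Sylow.smul_eq_iff_mem_normalizer.1 (hall (g • P))))
  obtain ⟨hsd, ⟨hsimp, -⟩, htype⟩ := data_of_ti Bender27.benderSplit h.core hTI P hmany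
  have hEtop := pElementClosure_eq_top h.not_normal hC hTI ha.1 ha.2.1 hsimp
  set E := Cfsg.pElementClosure 2 (⊤ : Subgroup G) with hE
  let eG : G ≃* ↥E := topEquiv.symm.trans (MulEquiv.subgroupCongr hEtop.symm)
  rcases htype with ⟨hnc, -⟩ | ⟨-, F, iF, iT, m, hm, hF, -, -, ⟨e⟩⟩ |
    ⟨hnc, F, iF, iT, n, hn, hF, ⟨e⟩⟩
  · exfalso
    rcases hsd.comm_of_sq with hel | hnc'
    · refine hd ⟨⟨⟨⟨fun x y => Subtype.ext (by_contra fun hne =>
        hnc ⟨x, x.2, y, y.2, hne⟩)⟩⟩, fun x hx => by rw [sq, hel x hx]⟩, ?_⟩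
      intro x hx y hy hx1 hy1
      obtain ⟨g, -, hg⟩ := hsd.transitive x hx y hy (CISylow69.orderOf_eq_two_of hx1 (hel x hx))
        (CISylow69.orderOf_eq_two_of hy1 (hel y hy))
      exact ⟨g, hg⟩
    · exact hnc hnc'
  · exact ⟨F, iF, iT, m, hm, hF, ⟨eG.trans e⟩⟩
  · exfalso
    set S' : Sylow 2 (Cfsg.PSU 3 F (2 ^ n)) :=
      P.mapSurjective (f := (eG.trans e).toMonoidHom) (eG.trans e).surjective with hS'
    obtain ⟨hS1, hS2, -⟩ := S1141.result hn hF S'
    let iso : ↥(P : Subgroup G) ≃* ↥(S' : Subgroup (Cfsg.PSU 3 F (2 ^ n))) :=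
      ((P : Subgroup G).equivMapOfInjective _ (eG.trans e).injective)
    have hPc : Nat.card ↥(P : Subgroup G) = (2 ^ n) ^ 3 :=
      (Nat.card_congr iso.toEquiv).trans hS1
    have hq : Suz27.qOf (P : Subgroup G) = 2 ^ n := by
      refine Eq.trans ?_ hS2
      refine Eq.trans ?_ (Nat.card_congr (Subgroup.centerCongr iso).toEquiv)
      refine Eq.trans ?_ (Nat.card_congr
        ((center ↥(P : Subgroup G)).equivMapOfInjective _ (P : Subgroup G).subtype_injective).toEquiv).symm
      refine Nat.card_congr (Equiv.subtypeEquivRight fun x => ?_)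
      constructor
      · rintro ⟨hx, hxx⟩
        exact ⟨⟨x, hx⟩, mem_center_iff.2 fun s => Subtype.ext (hsd.central x hx hxx s s.2), rfl⟩
      · rintro ⟨y, hy, rfl⟩
        exact ⟨y.2, hsd.center_sq hnc _ y.2 fun s hs =>
          congrArg Subtype.val (mem_center_iff.1 hy ⟨s, hs⟩)⟩
    obtain ⟨k, hk⟩ := card_dvd_index_sub_one hN
    have hN' := card_normalizer hC hsd
    rw [hPc] at hk hN'
    rw [hq] at hN'
    have hG : Nat.card (Cfsg.PSU 3 F (2 ^ n)) =
        (2 ^ n - 1) * (2 ^ n) ^ 3 * (1 + (2 ^ n) ^ 3 * k) := by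
      rw [← Nat.card_congr (eG.trans e).toEquiv,
        ← card_mul_index (normalizer ((P : Subgroup G) : Set G)), hN', hk]
      ring
    refine no_unitary hn rfl hG ?_
    have hcard := Unitary.card_PSU (F := F) (q := 2 ^ n) (n := 3) hF (by norm_num)
    refine hcard.trans ?_
    simp [Finset.prod_range_succ, Nat.even_iff]
    ring

end Cfsg.Agent.PComp40
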