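import Cfsg.Agent.PComp40.TwoSmall.Chars
import Cfsg.Agent.PComp40.Group.Normalizer
import Cfsg.Agent.PComp40.SixtyFourCount

/-!
# The case `p = 2` with three involutions
-/

set_option autoImplicit false

namespace Cfsg.Agent.PComp40

universe u

variable {G : Type u} [Group G] [Finite G] {P : Sylow 2 G}

/-- In the nonabelian case every frame has the shape of the character count. -/
theorem Hyp.sixtyFour (hs : SmallRank P)
    (hna : ∃ x ∈ (P : Subgroup G), ∃ y ∈ (P : Subgroup G), x * y ≠ y * x)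
    {L : Type u} [Group L] [Fintype L] (F : Frame P L) : SixtyFour F := by
  obtain ⟨x, hx, y, hy, hxy⟩ := hna
  obtain ⟨a, rfl⟩ := F.exists_ι_eq hx
  obtain ⟨b, rfl⟩ := F.exists_ι_eq hy
  exact F.sixtyFour hs ⟨a, b, fun e => hxy (by rw [← map_mul, e, map_mul])⟩

/-- The case of three involutions reduces to the count on a frame of order 64. -/
theorem Hyp.exists_sixtyFour (h : Hyp P) (hs : SmallRank P)
    (hd : ¬ (Cfsg.IsElementaryAbelian 2 (P : Subgroup G) ∧
      ∀ x ∈ (P : Subgroup G), ∀ y ∈ (P : Subgroup G), x ≠ 1 → y ≠ 1 →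
        ∃ g : G, g * x * g⁻¹ = y)) :
    ∃ (L : Type u) (_ : Group L) (_ : Fintype L) (F : Frame P L), SixtyFour F := by
  obtain ⟨L, iG, iF, ⟨F⟩⟩ := h.exists_frame
  refine ⟨L, iG, iF, F, ?_⟩
  by_cases hab : ∀ a b : F.K, a * b = b * a
  · exact (h.false_of_smallRank_abelian hs hd F hab).elim
  · push Not at hab
    exact F.sixtyFour hs hab

/-- A simple group has no such `P` unless it is elementary abelian with one class. -/
theorem Hyp.false_of_smallRank (h : Hyp P) (hs : SmallRank P) (hsimple : IsSimpleGroup G)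
    (hd : ¬ (Cfsg.IsElementaryAbelian 2 (P : Subgroup G) ∧
      ∀ x ∈ (P : Subgroup G), ∀ y ∈ (P : Subgroup G), x ≠ 1 → y ≠ 1 →
        ∃ g : G, g * x * g⁻¹ = y)) : False := by
  haveI := Fintype.ofFinite G
  obtain ⟨L, iG, iF, F, hF⟩ := h.exists_sixtyFour hs hd
  exact Hyp.false_of_sixtyFour P h hsimple F hF

end Cfsg.Agent.PComp40
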