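import Cfsg.Agent.PComp40.ReduceMain
import Cfsg.Agent.PComp40.OddA
import Cfsg.Agent.PComp40.OddB
import Cfsg.Agent.PComp40.TwoBig
import Cfsg.Agent.PComp40.TwoSmall
import Cfsg.Agent.PComp40.SixtyFourCount

/-!
# Local fusion, `p`-nilpotent centralizers and `p`-solvable pairs: the theorem
-/

set_option autoImplicit false

namespace Cfsg.Agent.PComp40

universe u

variable {G : Type u} [Group G] [Finite G]

/-- There is no configuration for odd `p`. -/
theorem Hyp.eq_two {p : ℕ} [Fact p.Prime] {P : Sylow p G} (h : Hyp P) : p = 2 := by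
  by_contra hp
  obtain ⟨H, hH, hh, hs, -⟩ := h.exists_simple
  by_cases hV : ∀ u v, IsV (P.subtype hH) u → IsV (P.subtype hH) v → IsConj u⁻¹ v
  · exact hh.false_of_one_class _ hp hs hV
  · push Not at hV
    obtain ⟨u, v, hu, hv, huv⟩ := hV
    exact hh.false_of_not_inverse _ hp hs hu hv huv

/-- A subgroup containing `P` keeps the small rank. -/
theorem SmallRank.subtype {p : ℕ} {P : Sylow p G} (hs : SmallRank P) {H : Subgroup G}
    (hH : (P : Subgroup G) ≤ H) : SmallRank (P.subtype hH) := by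
  refine ⟨fun x hx ho => ?_, ?_⟩
  · rw [Sylow.coe_subtype, Subgroup.mem_subgroupOf] at hx
    obtain ⟨-, -, hc⟩ := hs.1 x hx (by rw [Subgroup.orderOf_coe]; exact ho)
    refine ⟨by rwa [Sylow.coe_subtype, Subgroup.mem_subgroupOf], ho, fun y hy => ?_⟩
    rw [Sylow.coe_subtype, Subgroup.mem_subgroupOf] at hy
    exact Subtype.ext (hc y hy)
  · rw [← hs.2]
    refine Nat.card_congr
      { toFun := fun x => ⟨(x.1 : G), by
          exact x.2.1, by
          rw [← SubmonoidClass.coe_pow, x.2.2, OneMemClass.coe_one]⟩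
        invFun := fun x => ⟨⟨x.1, hH x.2.1⟩, x.2.1, Subtype.ext (by
          rw [SubmonoidClass.coe_pow, x.2.2, OneMemClass.coe_one])⟩
        left_inv := fun _ => rfl
        right_inv := fun _ => rfl }

/-- The exclusion of the elementary abelian case passes to subgroups containing `P`. -/
theorem not_elementary_subtype {P : Sylow 2 G} {H : Subgroup G} (hH : (P : Subgroup G) ≤ H)
    (hd : ¬ (Cfsg.IsElementaryAbelian 2 (P : Subgroup G) ∧
      ∀ x ∈ (P : Subgroup G), ∀ y ∈ (P : Subgroup G), x ≠ 1 → y ≠ 1 →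
        ∃ g : G, g * x * g⁻¹ = y)) :
    ¬ (Cfsg.IsElementaryAbelian 2 (P.subtype hH : Subgroup H) ∧
      ∀ x ∈ (P.subtype hH : Subgroup H), ∀ y ∈ (P.subtype hH : Subgroup H), x ≠ 1 → y ≠ 1 →
        ∃ g : H, g * x * g⁻¹ = y) := by
  rintro ⟨⟨⟨⟨hc⟩⟩, he⟩, h1⟩
  refine hd ⟨⟨⟨⟨fun a b => Subtype.ext ?_⟩⟩, fun a ha => ?_⟩, fun x hx y hy hx1 hy1 => ?_⟩
  · exact congrArg (fun z : (P.subtype hH : Subgroup H) => ((z : H) : G))
      (hc ⟨⟨a, hH a.2⟩, a.2⟩ ⟨⟨b, hH b.2⟩, b.2⟩)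
  · exact congrArg Subtype.val (he ⟨a, hH ha⟩ ha)
  · obtain ⟨g, hg⟩ := h1 ⟨x, hH hx⟩ hx ⟨y, hH hy⟩ hy (fun e => hx1 (congrArg Subtype.val e))
      (fun e => hy1 (congrArg Subtype.val e))
    exact ⟨g, congrArg Subtype.val hg⟩

/-- The theorem. -/
theorem Hyp.main {p : ℕ} [Fact p.Prime] {P : Sylow p G} (h : Hyp P)
    (hd : ¬ (p = 2 ∧ Cfsg.IsElementaryAbelian 2 (P : Subgroup G) ∧
      ∀ x ∈ (P : Subgroup G), ∀ y ∈ (P : Subgroup G), x ≠ 1 → y ≠ 1 →
        ∃ g : G, g * x * g⁻¹ = y)) :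
    p = 2 ∧ Cfsg.Lie.IsoSuzuki G := by
  obtain rfl := h.eq_two
  have hd' : ¬ (Cfsg.IsElementaryAbelian 2 (P : Subgroup G) ∧
      ∀ x ∈ (P : Subgroup G), ∀ y ∈ (P : Subgroup G), x ≠ 1 → y ≠ 1 →
        ∃ g : G, g * x * g⁻¹ = y) := fun hh => hd ⟨rfl, hh⟩
  refine ⟨rfl, ?_⟩
  by_cases hs : SmallRank P
  · exfalso
    obtain ⟨H, hH, hh, hsim, -⟩ := h.exists_simple
    haveI := Fintype.ofFinite H
    obtain ⟨L, _, _, F, hF⟩ :=
      hh.exists_sixtyFour (hs.subtype hH) (not_elementary_subtype hH hd')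
    exact Hyp.false_of_sixtyFour _ hh hsim F hF
  · exact h.isoSuzuki_of_big P hs hd'

end Cfsg.Agent.PComp40
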