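import Cfsg.Agent.PComp40.Defs
import Cfsg.Agent.Lib.BlocksCore.WeakOrth
import Cfsg.Agent.Lib.BlocksCore.Omega
import Cfsg.Agent.Lib.CharCore.Linear
import Cfsg.Agent.Lib.CharClifford.FrobTI.Local
import Cfsg.Agent.Lib.CharClifford.Galois
import Cfsg.Agent.BC87.Basic

/-!
# The case of one inverse-closed class of central elements of order `p`, `p` odd

Core of the counting argument: the group and block facts enter as hypotheses.
-/

set_option autoImplicit false
set_option linter.unusedSectionVars false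

namespace Cfsg.Agent.PComp40

open BlocksDefect BlocksCore.CyclicPrincipal
open scoped ComplexConjugate Classical

universe u

variable {G : Type u} [Group G] {p : ℕ} {P : Sylow p G}
variable {L : Type u} [Group L] [Fintype L]

/-- The elements of order dividing `p` of the kernel, without the identity. -/
noncomputable def Frame.vset (F : Frame P L) : Finset F.K :=
  Finset.univ.filter fun k => k ≠ 1 ∧ k ^ p = 1

theorem Frame.mem_vset (F : Frame P L) {k : F.K} : k ∈ F.vset ↔ k ≠ 1 ∧ k ^ p = 1 := by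
  simp [Frame.vset]

theorem Frame.natCard_K (F : Frame P L) :
    Nat.card F.K = Nat.card (P : Subgroup G) := Nat.card_congr F.iso.toEquiv

theorem Frame.comm_K (F : Frame P L)
    (hP : ∀ a ∈ (P : Subgroup G), ∀ b ∈ (P : Subgroup G), a * b = b * a) (a b : F.K) :
    a * b = b * a :=
  F.ι_injective (by rw [map_mul, map_mul]; exact hP _ (F.ι_mem a) _ (F.ι_mem b))

theorem Frame.orderOf_ι (F : Frame P L) (k : F.K) : orderOf (F.ι k) = orderOf k :=
  orderOf_injective F.ι F.ι_injective k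

variable [Fact p.Prime]

theorem Frame.isV_ι (F : Frame P L)
    (hP : ∀ a ∈ (P : Subgroup G), ∀ b ∈ (P : Subgroup G), a * b = b * a)
    {k : F.K} (hk : k ∈ F.vset) : IsV P (F.ι k) := by
  obtain ⟨h1, h2⟩ := F.mem_vset.1 hk
  exact ⟨F.ι_mem k, (F.orderOf_ι k).trans (orderOf_eq_prime h2 h1),
    fun y hy => hP _ (F.ι_mem k) _ hy⟩

/-- An element of the kernel conjugate to its inverse forces an even index. -/
theorem Frame.even_index (F : Frame P L) (hp : p ≠ 2) {k : F.K}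
    (hk : orderOf k = p) (hcent : ∀ y : F.K, k * y = y * k)
    (hinv : IsConj (k : L) ((k⁻¹ : F.K) : L)) : Even F.K.index := by
  obtain ⟨l, hl⟩ := isConj_iff.1 hinv
  have hk1 : (k : L) ≠ 1 := by
    intro h
    have h1 : k = 1 := Subtype.ext h
    rw [h1, orderOf_one] at hk
    exact (Fact.out : p.Prime).ne_one hk.symm
  have hlK : l ∉ F.K := by
    intro hmem
    have hc := congrArg Subtype.val (hcent ⟨l, hmem⟩)
    rw [Subgroup.coe_mul, Subgroup.coe_mul] at hc
    rw [← hc, mul_inv_cancel_right, Subgroup.coe_inv] at hl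
    have h2 : k ^ 2 = 1 := Subtype.ext (by
      rw [Subgroup.coe_pow, pow_two, Subgroup.coe_one]
      exact mul_eq_one_iff_eq_inv.2 hl)
    have h3 := orderOf_dvd_of_pow_eq_one h2
    rw [hk] at h3
    exact hp ((Nat.prime_dvd_prime_iff_eq (Fact.out : p.Prime) Nat.prime_two).1 h3)
  have hl2 : l * l ∈ F.K := by
    refine F.centralizer_le _ k.2 hk1 (Subgroup.mem_centralizer_singleton_iff.2 ?_)
    rw [Subgroup.coe_inv] at hl
    have e1 : l * (k : L)⁻¹ * l⁻¹ = (k : L) := by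
      calc l * (k : L)⁻¹ * l⁻¹ = (l * (k : L) * l⁻¹)⁻¹ := by group
        _ = (k : L) := by rw [hl, inv_inv]
    calc l * l * (k : L) = l * (l * (k : L) * l⁻¹) * l⁻¹ * (l * l) := by group
      _ = (k : L) * (l * l) := by rw [hl, e1]
  have hord : orderOf (QuotientGroup.mk' F.K l) = 2 := by
    refine orderOf_eq_prime ?_ fun h => hlK ((QuotientGroup.eq_one_iff l).1 h)
    rw [← map_pow, pow_two]
    exact (QuotientGroup.eq_one_iff _).2 hl2
  rw [even_iff_two_dvd, ← hord]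
  exact orderOf_dvd_natCard _

/-- The conjugates of an element of `vset` cover it, each `|K|` times. -/
theorem Frame.sum_conj_vset (F : Frame P L)
    (hP : ∀ a ∈ (P : Subgroup G), ∀ b ∈ (P : Subgroup G), a * b = b * a)
    (hone : ∀ v w : G, IsV P v → IsV P w → IsConj v w) {k : F.K} (hk : k ∈ F.vset)
    (f : F.K → ℂ) :
    ∑ x : L, f ⟨x * (k : L) * x⁻¹, F.normal.conj_mem k k.2 x⟩ =
      (Nat.card F.K : ℂ) * ∑ v ∈ F.vset, f v := by
  let g : L → F.K := fun x => ⟨x * (k : L) * x⁻¹, F.normal.conj_mem k k.2 x⟩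
  have hk' := F.mem_vset.1 hk
  have hg : ∀ x ∈ (Finset.univ : Finset L), g x ∈ F.vset := fun x _ => by
    refine F.mem_vset.2 ⟨fun h => hk'.1 ?_, ?_⟩
    · have h1 : x * (k : L) * x⁻¹ = 1 := congrArg Subtype.val h
      exact Subtype.ext (conj_eq_one_iff.1 h1)
    · refine Subtype.ext ?_
      change (x * (k : L) * x⁻¹) ^ p = 1
      rw [conj_pow, ← Subgroup.coe_pow, hk'.2, Subgroup.coe_one, mul_one, mul_inv_cancel]
  have hfib : ∀ v ∈ F.vset, (Finset.univ.filter fun x => g x = v).card = Nat.card F.K := by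
    intro v hv
    obtain ⟨l, hl⟩ := isConj_iff.1
      ((F.conj_iff k v).1 (hone _ _ (F.isV_ι hP hk) (F.isV_ι hP hv)))
    rw [← Nat.card_eq_finsetCard]
    refine Nat.card_congr
      { toFun := fun x => ⟨l⁻¹ * x.1, ?_⟩
        invFun := fun h => ⟨l * h.1, Finset.mem_filter.mpr ⟨Finset.mem_univ _, ?_⟩⟩
        left_inv := fun x => Subtype.ext (by simp)
        right_inv := fun h => Subtype.ext (by simp) }
    · have hx : x.1 * (k : L) * x.1⁻¹ = (v : L) :=
        congrArg Subtype.val (Finset.mem_filter.1 x.2).2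
      refine F.centralizer_le _ k.2 (fun h => hk'.1 (Subtype.ext h))
        (Subgroup.mem_centralizer_singleton_iff.2 ?_)
      calc l⁻¹ * x.1 * (k : L) = l⁻¹ * (x.1 * (k : L) * x.1⁻¹) * x.1 := by group
        _ = (k : L) * (l⁻¹ * x.1) := by rw [hx, ← hl]; group
    · apply Subtype.ext
      change (l * h.1) * (k : L) * (l * h.1)⁻¹ = (v : L)
      have hc := congrArg Subtype.val (F.comm_K hP h k)
      rw [Subgroup.coe_mul, Subgroup.coe_mul] at hc
      rw [← hl, mul_assoc l, hc]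
      group
  rw [← Finset.sum_fiberwise_of_maps_to hg, Finset.mul_sum]
  refine Finset.sum_congr rfl fun v hv => ?_
  rw [Finset.sum_congr rfl fun x hx => show f (g x) = f v by rw [(Finset.mem_filter.1 hx).2],
    Finset.sum_const, hfib v hv, nsmul_eq_mul]

theorem Frame.card_vset (F : Frame P L)
    (hP : ∀ a ∈ (P : Subgroup G), ∀ b ∈ (P : Subgroup G), a * b = b * a)
    (hone : ∀ v w : G, IsV P v → IsV P w → IsConj v w) {k : F.K} (hk : k ∈ F.vset) :
    F.vset.card = F.K.index := by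
  have h := F.sum_conj_vset hP hone hk fun _ => 1
  simp only [Finset.sum_const, nsmul_eq_mul, mul_one, Finset.card_univ] at h
  have h' : Fintype.card L = Nat.card F.K * F.vset.card := by exact_mod_cast h
  rw [← Nat.card_eq_fintype_card, ← Subgroup.card_mul_index F.K] at h'
  exact (Nat.eq_of_mul_eq_mul_left Nat.card_pos h').symm

theorem Frame.indFun_vset (F : Frame P L)
    (hP : ∀ a ∈ (P : Subgroup G), ∀ b ∈ (P : Subgroup G), a * b = b * a)
    (hone : ∀ v w : G, IsV P v → IsV P w → IsConj v w) {k : F.K} (hk : k ∈ F.vset)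
    (θ : F.K → ℂ) :
    Cfsg.indFun F.K θ (k : L) = ∑ v ∈ F.vset, θ v := by
  have hne : (Nat.card F.K : ℂ) ≠ 0 := Nat.cast_ne_zero.mpr Nat.card_pos.ne'
  rw [CharClifford.indFun_apply_normal F.K θ k]
  simp only [CharClifford.conjFun_apply]
  rw [F.sum_conj_vset hP hone hk θ, inv_mul_cancel_left₀ hne]

/-- A linear character sums to `|vset|` or to `-1` over `vset`. -/
theorem Frame.sum_vset_apply (F : Frame P L)
    (hP : ∀ a ∈ (P : Subgroup G), ∀ b ∈ (P : Subgroup G), a * b = b * a)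
    (θ : Cfsg.IrrCharacter F.K) :
    ∑ v ∈ F.vset, (θ : F.K → ℂ) v =
      if ∃ v ∈ F.vset, (θ : F.K → ℂ) v ≠ 1 then -1 else (F.vset.card : ℂ) := by
  split_ifs with h
  · obtain ⟨w, hw, hθw⟩ := h
    obtain ⟨f, hf⟩ := CharCore.IsCharacter.exists_hom_of_degree_one (CharCore.irr_isCharacter θ)
      (BC87.apply_one_eq_one_of_comm (F.comm_K hP) θ)
    have hins : Finset.univ.filter (fun k : F.K => k ^ p = 1) = insert 1 F.vset := by
      ext k
      simp only [Finset.mem_filter, Finset.mem_univ, true_and, Finset.mem_insert, F.mem_vset]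
      constructor
      · intro hk
        by_cases h1 : k = 1
        · exact Or.inl h1
        · exact Or.inr ⟨h1, hk⟩
      · rintro (rfl | hk)
        · exact one_pow p
        · exact hk.2
    have hsh : ∀ a : F.K, (w * a) ^ p = a ^ p := fun a => by
      rw [Commute.mul_pow (F.comm_K hP w a) p, (F.mem_vset.1 hw).2, one_mul]
    have hinv : ∑ k ∈ Finset.univ.filter (fun k : F.K => k ^ p = 1), (θ : F.K → ℂ) (w * k) =
        ∑ k ∈ Finset.univ.filter (fun k : F.K => k ^ p = 1), (θ : F.K → ℂ) k :=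
      Finset.sum_equiv (Equiv.mulLeft w) (fun a => by
        simp only [Finset.mem_filter, Finset.mem_univ, true_and, Equiv.coe_mulLeft, hsh])
        fun a _ => rfl
    simp only [hf, map_mul, Units.val_mul, ← Finset.mul_sum] at hinv hθw
    have h0 : ∑ k ∈ Finset.univ.filter (fun k : F.K => k ^ p = 1), ((f k : ℂˣ) : ℂ) = 0 := by
      by_contra hne
      exact hθw (mul_right_cancel₀ hne (hinv.trans (one_mul _).symm))
    rw [hins, Finset.sum_insert (fun h1 => (F.mem_vset.1 h1).1 rfl), map_one, Units.val_one] at h0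
    simp only [hf]
    linear_combination h0
  · push Not at h
    rw [Finset.sum_congr rfl h, Finset.sum_const, nsmul_eq_mul, mul_one]

/-- The characters of the kernel nontrivial on `vset`. -/
noncomputable def Frame.sset (F : Frame P L) : Finset (Cfsg.IrrCharacter F.K) :=
  Finset.univ.filter fun θ => ∃ v ∈ F.vset, (θ : F.K → ℂ) v ≠ 1

theorem Frame.sum_vset_sub (F : Frame P L)
    (hP : ∀ a ∈ (P : Subgroup G), ∀ b ∈ (P : Subgroup G), a * b = b * a)
    (θ : Cfsg.IrrCharacter F.K) :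
    ∑ v ∈ F.vset, ((θ : F.K → ℂ) 1 - (θ : F.K → ℂ) v) =
      if θ ∈ F.sset then (F.vset.card : ℂ) + 1 else 0 := by
  rw [Finset.sum_sub_distrib, F.sum_vset_apply hP θ, Finset.sum_const, nsmul_eq_mul,
    BC87.apply_one_eq_one_of_comm (F.comm_K hP) θ, mul_one]
  simp only [Frame.sset, Finset.mem_filter, Finset.mem_univ, true_and]
  split_ifs <;> ring

theorem Frame.card_sset (F : Frame P L)
    (hP : ∀ a ∈ (P : Subgroup G), ∀ b ∈ (P : Subgroup G), a * b = b * a) :
    F.sset.card * (F.vset.card + 1) = F.vset.card * Nat.card F.K := by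
  have h1 : ∑ θ : Cfsg.IrrCharacter F.K, (θ : F.K → ℂ) 1 = (Nat.card F.K : ℂ) := by
    rw [← CharCore.sum_degree_sq (G := F.K)]
    exact Finset.sum_congr rfl fun θ _ => by
      rw [BC87.apply_one_eq_one_of_comm (F.comm_K hP) θ, one_pow]
  have hv : ∀ v ∈ F.vset, ∑ θ : Cfsg.IrrCharacter F.K,
      ((θ : F.K → ℂ) 1 - (θ : F.K → ℂ) v) = (Nat.card F.K : ℂ) := by
    intro v hv
    rw [Finset.sum_sub_distrib, h1, sub_eq_self]
    have hnc : ¬ IsConj v (1 : F.K) := fun h => (F.mem_vset.1 hv).1 (isConj_one_left.1 h)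
    have h0 := CharCore.sum_apply_mul_conj v (1 : F.K)
    rw [if_neg hnc] at h0
    rw [← h0]
    exact Finset.sum_congr rfl fun θ _ => by
      rw [BC87.apply_one_eq_one_of_comm (F.comm_K hP) θ, map_one, mul_one]
  have key := Finset.sum_congr rfl hv
  rw [Finset.sum_comm, Finset.sum_congr rfl fun θ _ => F.sum_vset_sub hP θ,
    Finset.sum_ite_mem, Finset.univ_inter, Finset.sum_const, Finset.sum_const, nsmul_eq_mul,
    nsmul_eq_mul] at key
  exact_mod_cast key

/-- At most `|L : K|` characters of `sset` give the same induced character. -/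
theorem Frame.card_fibre_le (F : Frame P L) {θ : Cfsg.IrrCharacter F.K} (hθ : θ ∈ F.sset) :
    (F.sset.filter fun φ : Cfsg.IrrCharacter F.K =>
      Cfsg.indFun F.K (φ : F.K → ℂ) = Cfsg.indFun F.K (θ : F.K → ℂ)).card ≤ F.K.index := by
  have hne : ∀ φ ∈ F.sset, (φ : F.K → ℂ) ≠ 1 := fun φ hφ he => by
    obtain ⟨v, -, hv⟩ := (Finset.mem_filter.1 hφ).2
    exact hv (by rw [he]; rfl)
  have hK : CharClifford.FrobTI.Kernelish F.K := fun h hh h1 y hy =>
    F.centralizer_le h hh h1 (Subgroup.mem_centralizer_singleton_iff.2 hy)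
  rw [← (CharClifford.FrobTI.indFun_apply_eq_sum_fibre F.K hK
    ((CharClifford.FrobTI.mem_fibre F.K).2 ⟨hne θ hθ, rfl⟩)).2]
  refine Finset.card_le_card fun φ hφ => ?_
  obtain ⟨h1, h2⟩ := Finset.mem_filter.1 hφ
  exact (CharClifford.FrobTI.mem_fibre F.K).2 ⟨hne φ h1, h2⟩

variable [Fintype G] {M : Ideal Cfsg.AlgInt}

/-- What the counting uses about a member of the block. -/
structure Datum (F : Frame P L) (u : G) (ξ : Cfsg.IrrCharacter G) where
  /-- The value at `u`. -/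
  c : ℤ
  /-- The degree. -/
  d : ℕ
  val : (ξ : G → ℂ) u = (c : ℂ)
  deg : (ξ : G → ℂ) 1 = (d : ℂ)
  pos : 0 < d
  /-- The multiplicities in the restriction to the kernel. -/
  n : Cfsg.IrrCharacter F.K → ℕ
  mult_eq : ∀ θ : Cfsg.IrrCharacter F.K, F.mult (θ : F.K → ℂ) (ξ : G → ℂ) = (n θ : ℂ)
  sum_eq : (F.vset.card : ℤ) * ((d : ℤ) - c) =
    ((F.vset.card : ℤ) + 1) * ∑ θ ∈ F.sset, (n θ : ℤ)

theorem Frame.exists_datum (F : Frame P L)
    (hP : ∀ a ∈ (P : Subgroup G), ∀ b ∈ (P : Subgroup G), a * b = b * a)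
    (hone : ∀ v w : G, IsV P v → IsV P w → IsConj v w) {k : F.K} (hk : k ∈ F.vset)
    (hnat : ∀ (θ : Cfsg.IrrCharacter F.K) (ξ : Cfsg.IrrCharacter G),
      ∃ n : ℕ, F.mult (θ : F.K → ℂ) (ξ : G → ℂ) = (n : ℂ))
    (hres : ∀ (ξ : Cfsg.IrrCharacter G) (k : F.K), (ξ : G → ℂ) (F.ι k) =
      ∑ θ : Cfsg.IrrCharacter F.K, F.mult (θ : F.K → ℂ) (ξ : G → ℂ) * (θ : F.K → ℂ) k)
    (ξ : Cfsg.IrrCharacter G) : Nonempty (Datum F (F.ι k) ξ) := by
  choose n hn using fun θ => hnat θ ξ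
  obtain ⟨d, hd⟩ := CharCore.IsIrrCharacter.exists_degree ξ.2
  have key : (F.vset.card : ℂ) * ((ξ : G → ℂ) 1 - (ξ : G → ℂ) (F.ι k)) =
      ((F.vset.card : ℂ) + 1) * ∑ θ ∈ F.sset, (n θ : ℂ) := by
    calc (F.vset.card : ℂ) * ((ξ : G → ℂ) 1 - (ξ : G → ℂ) (F.ι k))
        = ∑ v ∈ F.vset, ((ξ : G → ℂ) (F.ι 1) - (ξ : G → ℂ) (F.ι v)) := by
          rw [Finset.sum_congr rfl fun v hv => ?_, Finset.sum_const, nsmul_eq_mul]
          rw [map_one]
          obtain ⟨g, hg⟩ := isConj_iff.1 (hone _ _ (F.isV_ι hP hk) (F.isV_ι hP hv))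
          rw [← hg, CharCore.irr_isClassFunction ξ]
      _ = ∑ θ : Cfsg.IrrCharacter F.K,
            (n θ : ℂ) * ∑ v ∈ F.vset, ((θ : F.K → ℂ) 1 - (θ : F.K → ℂ) v) := by
          simp only [hres, hn, ← Finset.sum_sub_distrib, ← mul_sub, Finset.mul_sum]
          exact Finset.sum_comm
      _ = ((F.vset.card : ℂ) + 1) * ∑ θ ∈ F.sset, (n θ : ℂ) := by
          simp only [F.sum_vset_sub hP, mul_ite, mul_zero]
          rw [Finset.sum_ite_mem, Finset.univ_inter, Finset.mul_sum]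
          exact Finset.sum_congr rfl fun θ _ => mul_comm _ _
  have he : (F.vset.card : ℂ) ≠ 0 := Nat.cast_ne_zero.mpr (Finset.card_pos.2 ⟨k, hk⟩).ne'
  have hrat : (ξ : G → ℂ) (F.ι k) = (((d : ℚ) -
      ((F.vset.card : ℚ) + 1) * (∑ θ ∈ F.sset, (n θ : ℚ)) / (F.vset.card : ℚ) : ℚ) : ℂ) := by
    push_cast
    rw [← key, hd.2]
    field_simp
    ring
  obtain ⟨c, hc⟩ := CharClifford.exists_int_of_isIntegral_rat
    (hrat ▸ BlocksCore.isIntegral_irr ξ (F.ι k))
  have hval : (ξ : G → ℂ) (F.ι k) = (c : ℂ) := by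
    rw [hrat, hc]
    push_cast
    rfl
  refine ⟨⟨c, d, hval, hd.2, ?_, n, hn, ?_⟩⟩
  · refine Nat.pos_of_ne_zero fun h0 => CharCore.irr_apply_one_ne_zero ξ ?_
    rw [hd.2, h0, Nat.cast_zero]
  · rw [hd.2, hval] at key
    exact_mod_cast key

set_option maxHeartbeats 1600000 in
theorem Frame.false_of_all_inverse_core (hM : IsPModular p M) (hp : p ≠ 2)
    (F : Frame P L)
    (hcomm : Even F.K.index →
      ∀ a ∈ (P : Subgroup G), ∀ b ∈ (P : Subgroup G), a * b = b * a)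
    (hex : ∃ x, IsV P x)
    (hall : ∀ u v : G, IsV P u → IsV P v → IsConj v u⁻¹)
    (hker : ∀ ξ : Cfsg.IrrCharacter G, ξ ≠ oneIrr G → ∀ g : G,
      (ξ : G → ℂ) g = (ξ : G → ℂ) 1 → g = 1)
    (hsec : ∀ g s x : G, Cfsg.IsPPart p g s → x ∈ (P : Subgroup G) → x ≠ 1 →
      ∑ ξ ∈ members M G, (ξ : G → ℂ) g * conj ((ξ : G → ℂ) x) =
        if IsConj x s then
          (Nat.card ↥((P : Subgroup G) ⊓ Subgroup.centralizer ({x} : Set G)) : ℂ) else 0)
    (hprod : ∀ u v y : G, IsV P u → IsV P v → IsConj v y →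
      (IsConj u⁻¹ y ∧ ¬ p ∣ orderOf (u * y) ∧
          ∀ j : ℕ, 1 < j → j < p → p ∣ orderOf (u * y ^ j)) ∨
        ∃ w s : G, IsV P w ∧ Cfsg.IsPPart p (u * y) s ∧ IsConj w s)
    (hsum : ∀ (θ : Cfsg.IrrCharacter F.K) (k : F.K), k ≠ 1 →
      ∑ ξ ∈ members M G, F.mult (θ : F.K → ℂ) (ξ : G → ℂ) * conj ((ξ : G → ℂ) (F.ι k)) =
        conj (Cfsg.indFun F.K (θ : F.K → ℂ) (k : L)))
    (hnat : ∀ (θ : Cfsg.IrrCharacter F.K) (ξ : Cfsg.IrrCharacter G),
      ∃ n : ℕ, F.mult (θ : F.K → ℂ) (ξ : G → ℂ) = (n : ℂ))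
    (hres : ∀ (ξ : Cfsg.IrrCharacter G) (k : F.K), (ξ : G → ℂ) (F.ι k) =
      ∑ θ : Cfsg.IrrCharacter F.K, F.mult (θ : F.K → ℂ) (ξ : G → ℂ) * (θ : F.K → ℂ) k)
    (hcongr : ∀ θ θ' : Cfsg.IrrCharacter F.K,
      Cfsg.indFun F.K (θ : F.K → ℂ) = Cfsg.indFun F.K (θ' : F.K → ℂ) →
      ∀ ξ ∈ members M G,
        F.mult (θ : F.K → ℂ) (ξ : G → ℂ) = F.mult (θ' : F.K → ℂ) (ξ : G → ℂ))
    (hfam : (∃ θ ∈ F.linSet, ∃ θ' ∈ F.linSet,
        Cfsg.indFun F.K (θ : F.K → ℂ) ≠ Cfsg.indFun F.K (θ' : F.K → ℂ)) →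
      Nonempty (F.Family M F.linSet)) : False := by
  have hpp : p.Prime := Fact.out
  have := BlocksCore.isPrime hM
  obtain ⟨x₀, hx₀P, hx₀p, hx₀c⟩ := hex
  obtain ⟨k₀, rfl⟩ := F.exists_ι_eq hx₀P
  rw [F.orderOf_ι] at hx₀p
  have heven : Even F.K.index := F.even_index hp hx₀p
    (fun y => F.ι_injective (by rw [map_mul, map_mul]; exact hx₀c _ (F.ι_mem y)))
    ((F.conj_iff k₀ k₀⁻¹).1 (by
      have h := hall _ _ ⟨F.ι_mem k₀, (F.orderOf_ι k₀).trans hx₀p, hx₀c⟩
        ⟨F.ι_mem k₀, (F.orderOf_ι k₀).trans hx₀p, hx₀c⟩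
      rw [← map_inv] at h
      exact h))
  have hP := hcomm heven
  have hk : k₀ ∈ F.vset := F.mem_vset.2 ⟨fun h => hpp.ne_one (by rw [← hx₀p, h, orderOf_one]),
    orderOf_dvd_iff_pow_eq_one.1 (dvd_of_eq hx₀p)⟩
  have hone : ∀ v w : G, IsV P v → IsV P w → IsConj v w := fun v w hv hw =>
    (hall v v hv hv).trans (hall v w hv hw).symm
  set u : G := F.ι k₀ with hu
  have huV : IsV P u := F.isV_ι hP hk
  have hu1 : u ≠ 1 := F.ι_ne_one (F.mem_vset.1 hk).1
  set q : ℕ := Nat.card (P : Subgroup G) with hq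
  have hPC : (Nat.card ↥((P : Subgroup G) ⊓ Subgroup.centralizer ({u} : Set G))) = q := by
    rw [inf_eq_left.2 fun y hy => Subgroup.mem_centralizer_singleton_iff.2 (huV.2.2 y hy).symm]
  have e_eq : F.vset.card = F.K.index := F.card_vset hP hone hk
  set e : ℕ := F.vset.card with he
  have he0 : 0 < e := Finset.card_pos.2 ⟨k₀, hk⟩
  let dat : ∀ ξ, Datum F u ξ := fun ξ => (F.exists_datum hP hone hk hnat hres ξ).some
  set c : Cfsg.IrrCharacter G → ℤ := fun ξ => (dat ξ).c with hc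
  set d : Cfsg.IrrCharacter G → ℕ := fun ξ => (dat ξ).d with hd
  have hval : ∀ ξ : Cfsg.IrrCharacter G, (ξ : G → ℂ) u = (c ξ : ℂ) := fun ξ => (dat ξ).val
  have hdeg : ∀ ξ : Cfsg.IrrCharacter G, (ξ : G → ℂ) 1 = (d ξ : ℂ) := fun ξ => (dat ξ).deg
  have hconj : ∀ ξ : Cfsg.IrrCharacter G, conj ((ξ : G → ℂ) u) = (c ξ : ℂ) := fun ξ => by
    rw [hval, map_intCast]
  have h1B : oneIrr G ∈ members M G := mem_members.2 oneIrr_mem
  have hc1 : c (oneIrr G) = 1 := by
    have h := hval (oneIrr G)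
    exact_mod_cast (show (c (oneIrr G) : ℂ) = 1 from h.symm.trans rfl)
  have hd1 : d (oneIrr G) = 1 := by
    have h := hdeg (oneIrr G)
    exact_mod_cast (show (d (oneIrr G) : ℂ) = 1 from h.symm.trans rfl)
  -- the orthogonality relations at `u`
  have hsq : ∑ ξ ∈ members M G, c ξ * c ξ = (q : ℤ) := by
    have hpp' : Cfsg.IsPPart p u u := ⟨1, mul_one u, Commute.one_right u,
      ⟨1, by rw [pow_one]; exact huV.2.1⟩, by rw [orderOf_one]; exact hpp.not_dvd_one⟩
    have h := hsec u u u hpp' huV.1 hu1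
    rw [if_pos (IsConj.refl u), hPC, Finset.sum_congr rfl fun ξ _ => by rw [hval, map_intCast]] at h
    exact_mod_cast h
  have hcd : ∑ ξ ∈ members M G, c ξ * (d ξ : ℤ) = 0 := by
    have hpp' : Cfsg.IsPPart p (1 : G) 1 := ⟨1, mul_one 1, Commute.one_right 1,
      ⟨0, by rw [pow_zero, orderOf_one]⟩, by rw [orderOf_one]; exact hpp.not_dvd_one⟩
    have h := hsec 1 1 u hpp' huV.1 hu1
    rw [if_neg fun h' => hu1 (isConj_one_left.1 h'),
      Finset.sum_congr rfl fun ξ _ => by rw [hdeg, hconj, mul_comm]] at h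
    exact_mod_cast h
  have hsq' : ∑ ξ ∈ (members M G).erase (oneIrr G), c ξ * c ξ = (q : ℤ) - 1 := by
    rw [Finset.sum_erase_eq_sub h1B, hsq, hc1, mul_one]
  -- the claim
  have claim : ∀ ξ ∈ members M G, ξ ≠ oneIrr G → 2 * c ξ ≤ (d ξ : ℤ) := by
    intro ξ hξ hξ1
    have hne : (d ξ : ℤ) - c ξ ≠ 0 := fun h0 => hu1 (hker ξ hξ1 u (by
      rw [hval, hdeg, ← sub_eq_zero.1 h0, Int.cast_natCast]))
    have hS : 0 ≤ ∑ θ ∈ F.sset, ((dat ξ).n θ : ℤ) := Finset.sum_nonneg fun θ _ => by positivity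
    have hsum_eq : (e : ℤ) * ((d ξ : ℤ) - c ξ) =
        ((e : ℤ) + 1) * ∑ θ ∈ F.sset, ((dat ξ).n θ : ℤ) := (dat ξ).sum_eq
    have he0' : (0 : ℤ) < e := by exact_mod_cast he0
    have hpos : 0 < (d ξ : ℤ) - c ξ := lt_of_le_of_ne (by
      by_contra hneg
      nlinarith [mul_nonneg (by positivity : (0 : ℤ) ≤ (e : ℤ) + 1) hS,
        mul_pos he0' (neg_pos.2 (not_le.1 hneg))]) hne.symm
    have hdvd : ((e : ℤ) + 1) ∣ (d ξ : ℤ) - c ξ :=
      ⟨(d ξ : ℤ) - c ξ - ∑ θ ∈ F.sset, ((dat ξ).n θ : ℤ), by linear_combination -hsum_eq⟩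
    have hge : (e : ℤ) + 1 ≤ (d ξ : ℤ) - c ξ := Int.le_of_dvd hpos hdvd
    have hc2 : c ξ * c ξ ≤ (q : ℤ) - 1 := by
      rw [← hsq']
      exact Finset.single_le_sum (f := fun η => c η * c η) (fun η _ => mul_self_nonneg _)
        (Finset.mem_erase.2 ⟨hξ1, hξ⟩)
    have hcle : c ξ ≤ c ξ * c ξ := Int.le_self_sq (c ξ) |>.trans (le_of_eq (sq (c ξ)))
    by_cases hconst : ∀ θ ∈ F.sset, ∀ θ' ∈ F.sset, (dat ξ).n θ = (dat ξ).n θ'
    · obtain ⟨m, hm⟩ : ∃ m : ℕ, ∀ θ ∈ F.sset, (dat ξ).n θ = m := by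
        rcases F.sset.eq_empty_or_nonempty with h | ⟨θ₀, h₀⟩
        · exact ⟨0, by rw [h]; exact fun θ hθ => absurd hθ (Finset.notMem_empty θ)⟩
        · exact ⟨_, fun θ hθ => hconst θ hθ θ₀ h₀⟩
      rw [Finset.sum_congr rfl (fun θ hθ => by rw [hm θ hθ]), Finset.sum_const, nsmul_eq_mul]
        at hsum_eq
      have hcs : (F.sset.card : ℤ) * ((e : ℤ) + 1) = (e : ℤ) * (q : ℤ) := by
        rw [hq, ← F.natCard_K]
        exact_mod_cast F.card_sset hP
      have hdq : (d ξ : ℤ) - c ξ = (q : ℤ) * (m : ℤ) := by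
        refine mul_left_cancel₀ he0'.ne' ?_
        rw [hsum_eq]
        linear_combination (m : ℤ) * hcs
      have hm1 : 1 ≤ (m : ℤ) := by
        rcases Nat.eq_zero_or_pos m with h | h
        · exact absurd (by rw [hdq, h, Nat.cast_zero, mul_zero]) hne
        · exact_mod_cast h
      nlinarith
    · push Not at hconst
      obtain ⟨θa, ha, θb, hb, hab⟩ := hconst
      have hlin : ∀ θ ∈ F.sset, θ ∈ F.linSet := fun θ hθ =>
        ⟨BC87.apply_one_eq_one_of_comm (F.comm_K hP) θ, fun h => by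
          obtain ⟨v, -, hv⟩ := (Finset.mem_filter.1 hθ).2
          exact hv (congrFun h v)⟩
      obtain ⟨Fam⟩ := hfam ⟨θa, hlin θa ha, θb, hlin θb hb, fun heq => hab (by
        have h := hcongr θa θb heq ξ hξ
        rw [(dat ξ).mult_eq, (dat ξ).mult_eq] at h
        exact_mod_cast h)⟩
      have hrel : ∀ θ ∈ F.sset, ∀ θ' ∈ F.sset, ∀ η ∈ members M G,
          F.mult (θ : F.K → ℂ) (η : G → ℂ) - F.mult (θ' : F.K → ℂ) (η : G → ℂ) =
            (Fam.ε : ℂ) * ((if η = Fam.chi θ then 1 else 0) -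
              (if η = Fam.chi θ' then 1 else 0)) := by
        intro θ hθ θ' hθ' η hη
        have h := Fam.rel θ (hlin θ hθ) θ' (hlin θ' hθ') η hη
        simpa [(hlin θ hθ).1, (hlin θ' hθ').1] using h
      obtain ⟨θ₀, h₀, hξ₀⟩ : ∃ θ ∈ F.sset, ξ = Fam.chi θ := by
        by_contra hno
        push Not at hno
        have h := hrel θa ha θb hb ξ hξ
        rw [if_neg (hno θa ha), if_neg (hno θb hb), sub_zero, mul_zero, sub_eq_zero,
          (dat ξ).mult_eq, (dat ξ).mult_eq] at h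
        exact hab (by exact_mod_cast h)
      have hsame : ∀ θ ∈ F.sset, c (Fam.chi θ) = c ξ := by
        intro θ hθ
        have h1 := hsum θ k₀ (F.mem_vset.1 hk).1
        have h2 := hsum θ₀ k₀ (F.mem_vset.1 hk).1
        rw [F.indFun_vset hP hone hk, F.sum_vset_apply hP,
          if_pos (Finset.mem_filter.1 hθ).2] at h1
        rw [F.indFun_vset hP hone hk, F.sum_vset_apply hP,
          if_pos (Finset.mem_filter.1 h₀).2] at h2
        have h3 := h1.trans h2.symm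
        rw [← sub_eq_zero, ← Finset.sum_sub_distrib,
          Finset.sum_congr rfl fun η hη => by rw [← sub_mul, hrel θ hθ θ₀ h₀ η hη, ← hu, hconj]]
          at h3
        simp only [mul_sub, sub_mul, Finset.sum_sub_distrib, mul_ite, mul_one, mul_zero, ite_mul,
          zero_mul, Finset.sum_ite_eq', Fam.mem θ (hlin θ hθ), Fam.mem θ₀ (hlin θ₀ h₀),
          if_true] at h3
        have hε : (Fam.ε : ℂ) ≠ 0 := by
          rcases Fam.ε_eq with h | h <;> simp [h]
        rw [← mul_sub] at h3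
        have h4 := sub_eq_zero.1 ((mul_eq_zero.1 h3).resolve_left hε)
        rw [← hξ₀] at h4
        exact_mod_cast h4
      have hI : (F.sset.image Fam.chi).card * (c ξ * c ξ) ≤ (q : ℤ) - 1 := by
        rw [← hsq', ← nsmul_eq_mul, ← Finset.sum_const]
        refine le_trans (le_of_eq (Finset.sum_congr rfl fun η hη => ?_))
          (Finset.sum_le_sum_of_subset_of_nonneg ?_ fun η _ _ => mul_self_nonneg _)
        · obtain ⟨θ, hθ, rfl⟩ := Finset.mem_image.1 hη
          rw [hsame θ hθ]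
        · intro η hη
          obtain ⟨θ, hθ, rfl⟩ := Finset.mem_image.1 hη
          exact Finset.mem_erase.2 ⟨Fam.ne_one θ (hlin θ hθ), Fam.mem θ (hlin θ hθ)⟩
      have hcard : F.sset.card ≤ e * (F.sset.image Fam.chi).card := by
        rw [e_eq]
        refine Finset.card_le_mul_card_image _ _ fun η hη => ?_
        obtain ⟨θ, hθ, rfl⟩ := Finset.mem_image.1 hη
        refine le_trans (Finset.card_le_card fun φ hφ => ?_) (F.card_fibre_le hθ)
        obtain ⟨h1, h2⟩ := Finset.mem_filter.1 hφ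
        exact Finset.mem_filter.2 ⟨h1, (Fam.inj φ (hlin φ h1) θ (hlin θ hθ)).1 h2⟩
      have hcs : (F.sset.card : ℤ) * ((e : ℤ) + 1) = (e : ℤ) * (q : ℤ) := by
        rw [hq, ← F.natCard_K]
        exact_mod_cast F.card_sset hP
      set I : ℤ := ((F.sset.image Fam.chi).card : ℤ) with hIdef
      have hcard' : (F.sset.card : ℤ) ≤ (e : ℤ) * I := by
        rw [hIdef]
        exact_mod_cast hcard
      have hq1 : (1 : ℤ) ≤ q := by
        have : 0 < q := by rw [hq]; exact Nat.card_pos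
        exact_mod_cast this
      have h5 : (e : ℤ) * ((q : ℤ) * (c ξ * c ξ)) ≤ (e : ℤ) * (((e : ℤ) + 1) * ((q : ℤ) - 1)) := by
        calc (e : ℤ) * ((q : ℤ) * (c ξ * c ξ))
            = (F.sset.card : ℤ) * (((e : ℤ) + 1) * (c ξ * c ξ)) := by
              linear_combination -(c ξ * c ξ) * hcs
          _ ≤ (e : ℤ) * I * (((e : ℤ) + 1) * (c ξ * c ξ)) :=
              mul_le_mul_of_nonneg_right hcard' (mul_nonneg (by positivity) (mul_self_nonneg _))
          _ = (e : ℤ) * (((e : ℤ) + 1) * (I * (c ξ * c ξ))) := by ring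
          _ ≤ (e : ℤ) * (((e : ℤ) + 1) * ((q : ℤ) - 1)) :=
              mul_le_mul_of_nonneg_left (mul_le_mul_of_nonneg_left hI (by positivity))
                (by positivity)
      have h6 := le_of_mul_le_mul_left h5 he0'
      nlinarith
  -- products of two conjugates of `u`
  set R : Finset G :=
    Finset.univ.filter fun g => ¬ p ∣ orderOf (u * (g * u * g⁻¹)) with hR
  have hhalf : 2 * R.card ≤ Nat.card G := by
    obtain ⟨h, hh⟩ := isConj_iff.1 (hone u (u ^ 2) huV (by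
      have hmem : k₀ ^ 2 ∈ F.vset := by
        refine F.mem_vset.2 ⟨fun h0 => hp ?_, ?_⟩
        · exact (Nat.prime_dvd_prime_iff_eq hpp Nat.prime_two).1
            (hx₀p ▸ orderOf_dvd_of_pow_eq_one h0)
        · rw [← pow_mul, mul_comm, pow_mul, (F.mem_vset.1 hk).2, one_pow]
      rw [hu, ← map_pow]
      exact F.isV_ι hP hmem))
    set R' : Finset G := R.map (Equiv.mulRight h⁻¹).toEmbedding with hR'
    have hdisj : Disjoint R R' := by
      rw [Finset.disjoint_left]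
      intro g hg hg'
      obtain ⟨g', hg'R, hgg'⟩ := Finset.mem_map.1 hg'
      have hy : g' * u * g'⁻¹ = (g * u * g⁻¹) ^ 2 := by
        rw [conj_pow, ← hh, ← hgg']
        simp only [Equiv.coe_toEmbedding, Equiv.coe_mulRight]
        group
      have hreg := (Finset.mem_filter.1 hg).2
      have hreg' := (Finset.mem_filter.1 hg'R).2
      rw [hy] at hreg'
      rcases hprod u u (g * u * g⁻¹) huV huV (isConj_iff.2 ⟨g, rfl⟩) with
        ⟨-, -, h3⟩ | ⟨w, s, hw, hs, hws⟩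
      · exact hreg' (h3 2 one_lt_two (lt_of_le_of_ne hpp.two_le (Ne.symm hp)))
      · obtain ⟨a, ha⟩ := isConj_iff.1 hws
        have hso : orderOf s = p := by
          rw [← ha, ← MulAut.conj_apply, MulEquiv.orderOf_eq]
          exact hw.2.1
        obtain ⟨y', hy1', hy2', -, hy4⟩ := hs
        refine hreg ?_
        rw [← hy1', hy2'.orderOf_mul_eq_mul_orderOf_of_coprime
          (by rw [hso]; exact hpp.coprime_iff_not_dvd.2 hy4), hso]
        exact dvd_mul_right p _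
    have hcardR' : R'.card = R.card := Finset.card_map _
    have hU := Finset.card_le_univ (R ∪ R')
    rw [Finset.card_union_of_disjoint hdisj, hcardR', ← Nat.card_eq_fintype_card] at hU
    omega
  have hrow : ∀ g : G,
      ∑ ξ ∈ members M G, (ξ : G → ℂ) (u * (g * u * g⁻¹)) * conj ((ξ : G → ℂ) u) =
        if g ∈ R then 0 else (q : ℂ) := by
    intro g
    by_cases hg : g ∈ R
    · rw [if_pos hg, hsec _ 1 u ⟨_, one_mul _, Commute.one_left _,
        ⟨0, by rw [pow_zero, orderOf_one]⟩, (Finset.mem_filter.1 hg).2⟩ huV.1 hu1,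
        if_neg fun h' => hu1 (isConj_one_left.1 h')]
    · rw [if_neg hg]
      rcases hprod u u (g * u * g⁻¹) huV huV (isConj_iff.2 ⟨g, rfl⟩) with
        ⟨-, h2, -⟩ | ⟨w, s, hw, hs, hws⟩
      · exact absurd (Finset.mem_filter.2 ⟨Finset.mem_univ g, h2⟩) hg
      · rw [hsec _ s u hs huV.1 hu1, if_pos ((hone u w huV hw).trans hws), hPC]
  have havg : ∀ ξ : Cfsg.IrrCharacter G, ∑ g : G, (ξ : G → ℂ) (u * (g * u * g⁻¹)) =
      (Nat.card G : ℂ) * (c ξ : ℂ) * (c ξ : ℂ) / (d ξ : ℂ) := fun ξ => by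
    rw [← hval, ← hdeg, ← BlocksCore.sum_char_conj_mul ξ u u]
    refine Fintype.sum_equiv (Equiv.inv G) _ _ fun g => ?_
    rw [← CharCore.irr_isClassFunction ξ (u * (g * u * g⁻¹)) u⁻¹]
    simp only [Equiv.inv_apply, inv_inv]
    group
  have htot : ∑ ξ ∈ members M G, (Nat.card G : ℝ) * (c ξ : ℝ) ^ 3 / (d ξ : ℝ) =
      (q : ℝ) * ((Nat.card G : ℝ) - (R.card : ℝ)) := by
    have h1 : ∑ g : G, ∑ ξ ∈ members M G,
        (ξ : G → ℂ) (u * (g * u * g⁻¹)) * conj ((ξ : G → ℂ) u) =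
          (q : ℂ) * ((Nat.card G : ℂ) - (R.card : ℂ)) := by
      rw [Finset.sum_congr rfl fun g _ => hrow g, Finset.sum_ite, Finset.sum_const_zero,
        zero_add, Finset.sum_const, nsmul_eq_mul, mul_comm]
      congr 1
      rw [Finset.filter_not, Finset.filter_mem_eq_inter, Finset.univ_inter,
        Finset.card_sdiff_of_subset (Finset.subset_univ R), Finset.card_univ,
        Nat.cast_sub (Finset.card_le_univ R), Nat.card_eq_fintype_card]
    rw [Finset.sum_comm] at h1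
    apply Complex.ofReal_injective
    push_cast
    rw [← h1]
    refine Finset.sum_congr rfl fun ξ _ => ?_
    rw [← Finset.sum_mul, havg ξ, hconj]
    ring
  -- the contradiction
  set B := (members M G).erase (oneIrr G) with hB
  have hG0 : (0 : ℝ) < Nat.card G := by exact_mod_cast Nat.card_pos
  have hlow : (q : ℝ) / 2 - 1 ≤ ∑ ξ ∈ B, (c ξ : ℝ) ^ 3 / (d ξ : ℝ) := by
    have h2 : ∑ ξ ∈ members M G, (c ξ : ℝ) ^ 3 / (d ξ : ℝ) ≥ (q : ℝ) / 2 := by
      have h3 : (Nat.card G : ℝ) * ∑ ξ ∈ members M G, (c ξ : ℝ) ^ 3 / (d ξ : ℝ) ≥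
          (Nat.card G : ℝ) * ((q : ℝ) / 2) := by
        rw [Finset.mul_sum]
        simp only [← mul_div_assoc]
        rw [htot]
        have h4 : (2 : ℝ) * R.card ≤ Nat.card G := by exact_mod_cast hhalf
        have h5 : (0 : ℝ) ≤ q := by positivity
        nlinarith [mul_le_mul_of_nonneg_left h4 h5]
      exact le_of_mul_le_mul_left h3 hG0
    rw [hB, Finset.sum_erase_eq_sub h1B, hc1, hd1]
    norm_num
    linarith
  obtain ⟨η, hη, hηneg⟩ : ∃ η ∈ B, c η < 0 := by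
    by_contra hno
    push Not at hno
    have h := Finset.sum_nonneg fun ξ (hξ : ξ ∈ B) =>
      mul_nonneg (hno ξ hξ) (Int.natCast_nonneg (d ξ))
    rw [hB, Finset.sum_erase_eq_sub h1B, hcd, hc1, hd1] at h
    norm_num at h
  have hterm : ∀ ξ ∈ B, 0 ≤ (c ξ : ℝ) ^ 2 - 2 * ((c ξ : ℝ) ^ 3 / (d ξ : ℝ)) := by
    intro ξ hξ
    obtain ⟨h1, h2⟩ := Finset.mem_erase.1 hξ
    have hdpos : (0 : ℝ) < d ξ := by exact_mod_cast (dat ξ).pos
    have h3 : (2 : ℝ) * c ξ ≤ d ξ := by exact_mod_cast claim ξ h2 h1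
    have h4 : (c ξ : ℝ) ^ 2 - 2 * ((c ξ : ℝ) ^ 3 / (d ξ : ℝ)) =
        (c ξ : ℝ) ^ 2 * ((d ξ : ℝ) - 2 * c ξ) / (d ξ : ℝ) := by
      field_simp
    rw [h4]
    exact div_nonneg (mul_nonneg (sq_nonneg _) (by linarith)) hdpos.le
  have hbig : 1 < (c η : ℝ) ^ 2 - 2 * ((c η : ℝ) ^ 3 / (d η : ℝ)) := by
    have hdpos : (0 : ℝ) < d η := by exact_mod_cast (dat η).pos
    have h1 : (c η : ℝ) ≤ -1 := by exact_mod_cast (by omega : c η ≤ -1)
    have h2 : (c η : ℝ) ^ 3 / (d η : ℝ) < 0 := div_neg_of_neg_of_pos ((Odd.pow_neg_iff (by decide : Odd 3)).2 (by linarith)) hdpos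
    nlinarith
  have hfin := Finset.single_le_sum hterm hη
  rw [Finset.sum_sub_distrib, ← Finset.mul_sum,
    show ∑ ξ ∈ B, (c ξ : ℝ) ^ 2 = (q : ℝ) - 1 by
      have h := congrArg (fun z : ℤ => (z : ℝ)) hsq'
      push_cast at h
      rw [← h]
      exact Finset.sum_congr rfl fun ξ _ => sq _] at hfin
  linarith

end Cfsg.Agent.PComp40
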