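import Cfsg.Agent.PComp40.Defs
import Cfsg.Agent.Lib.Thompson.PSolvable
import Cfsg.Agent.Lib.Transfer.Residual
import Cfsg.Agent.Lib.PGroup.Basic

/-!
# Reduction to a simple group
-/

set_option autoImplicit false

namespace Cfsg.Agent.PComp40

universe u

variable {G : Type u} [Group G] {p : ℕ} {P : Sylow p G}

/-- Restriction of the hypotheses to a subgroup containing `P`. -/
theorem Hyp.subtype [Finite G] [Fact p.Prime] (h : Hyp P) {H : Subgroup G}
    (hH : (P : Subgroup G) ≤ H) (hcore : Cfsg.pPrimeCore p H = ⊥)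
    (hnn : ¬ H ≤ Subgroup.normalizer ((P : Subgroup G) : Set G))
    (hfus : ∀ x ∈ (P : Subgroup G), ∀ y ∈ (P : Subgroup G), (∃ g ∈ H, g * x * g⁻¹ = y) →
      ∃ n ∈ Subgroup.normalizer ((P : Subgroup G) : Set G), n ∈ H ∧ n * x * n⁻¹ = y) :
    Hyp (P.subtype hH) where
  core := hcore
  not_normal hn := by
    rw [Sylow.coe_subtype, Subgroup.normal_subgroupOf_iff_le_normalizer hH] at hn
    exact hnn hn
  fusion x hx y hy hg := by
    obtain ⟨g, hg⟩ := hg
    rw [Sylow.coe_subtype, Subgroup.mem_subgroupOf] at hx hy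
    obtain ⟨n, hnN, hnH, hn⟩ :=
      hfus x hx y hy ⟨g, g.2, by rw [← hg]; simp⟩
    refine ⟨⟨n, hnH⟩, ?_, Subtype.ext (by simpa using hn)⟩
    rw [Sylow.coe_subtype]
    refine Subgroup.mem_normalizer_iff.2 fun a => ?_
    simp only [Subgroup.mem_subgroupOf, Subgroup.coe_mul, InvMemClass.coe_inv]
    exact Subgroup.mem_normalizer_iff.1 hnN a
  cent x hx ho := by
    rw [Sylow.coe_subtype, Subgroup.mem_subgroupOf] at hx
    have h1 := h.cent x hx (by rw [Subgroup.orderOf_coe]; exact ho)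
    refine Transfer.hasNormalPComplement_of_injective h1
      ((H.subtype.comp (Subgroup.centralizer ({x} : Set H)).subtype).codRestrict _ fun c =>
        Subgroup.mem_centralizer_singleton_iff.2
          (congrArg Subtype.val (Subgroup.mem_centralizer_singleton_iff.1 c.2))) ?_
    exact fun a b hab => Subtype.ext (Subtype.ext (congrArg Subtype.val hab :))
  psolv x y hx hy := by
    have h1 := h.psolv x y (by rw [Subgroup.orderOf_coe]; exact hx)
      (by rw [Subgroup.orderOf_coe]; exact hy)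
    have hmap : (Subgroup.closure ({x, y} : Set H)).map H.subtype =
        Subgroup.closure ({(x : G), (y : G)} : Set G) := by
      rw [MonoidHom.map_closure, Set.image_pair]
      rfl
    exact Thompson.isPSolvable_of_equiv
      ((Subgroup.equivMapOfInjective _ _ H.subtype_injective).trans
        (MulEquiv.subgroupCongr hmap)).symm h1

/-- The hypotheses are preserved by isomorphisms. -/
theorem Hyp.congr [Finite G] [Fact p.Prime] (h : Hyp P) {G' : Type*} [Group G'] (e : G ≃* G')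
    {P' : Sylow p G'} (hP : (P : Subgroup G).map e.toMonoidHom = P') : Hyp P' where
  core := by
    rw [← Thompson.map_pPrimeCore_equiv e, h.core, Subgroup.map_bot]
  not_normal hn := h.not_normal <| by
    have : (P : Subgroup G) = (P' : Subgroup G').comap e.toMonoidHom := by
      rw [← hP, Subgroup.comap_map_eq_self_of_injective e.injective]
    rw [this]
    exact hn.comap _
  fusion x hx y hy hg := by
    rw [← hP, Subgroup.mem_map] at hx hy
    obtain ⟨a, ha, rfl⟩ := hx
    obtain ⟨b, hb, rfl⟩ := hy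
    obtain ⟨g, hg⟩ := hg
    obtain ⟨n, hn, hn'⟩ := h.fusion a ha b hb ⟨e.symm g, e.injective (by simpa using hg)⟩
    refine ⟨e n, ?_, by simp [← hn']⟩
    refine Subgroup.mem_normalizer_iff.2 fun c => ?_
    obtain ⟨c, rfl⟩ := e.surjective c
    rw [← hP, ← map_inv, ← map_mul, ← map_mul, ← MulEquiv.coe_toMonoidHom,
      Subgroup.mem_map_iff_mem e.injective, Subgroup.mem_map_iff_mem e.injective]
    exact Subgroup.mem_normalizer_iff.1 hn c
  cent x hx ho := by
    rw [← hP, Subgroup.mem_map] at hx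
    obtain ⟨a, ha, rfl⟩ := hx
    have h1 := h.cent a ha (by simpa using ho)
    have hmap : (Subgroup.centralizer ({a} : Set G)).map e.toMonoidHom =
        Subgroup.centralizer ({e a} : Set G') := by
      ext c
      obtain ⟨c, rfl⟩ := e.surjective c
      rw [← MulEquiv.coe_toMonoidHom, Subgroup.mem_map_iff_mem e.injective,
        Subgroup.mem_centralizer_singleton_iff, Subgroup.mem_centralizer_singleton_iff,
        MulEquiv.coe_toMonoidHom, ← map_mul, ← map_mul, e.injective.eq_iff]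
    exact (Transfer.hasNormalPComplement_congr
      ((Subgroup.equivMapOfInjective _ _ e.injective).trans (MulEquiv.subgroupCongr hmap))).1 h1
  psolv x y hx hy := by
    obtain ⟨a, rfl⟩ := e.surjective x
    obtain ⟨b, rfl⟩ := e.surjective y
    have h1 := h.psolv a b (by simpa using hx) (by simpa using hy)
    have hmap : (Subgroup.closure ({a, b} : Set G)).map e.toMonoidHom =
        Subgroup.closure ({e a, e b} : Set G') := by
      rw [MonoidHom.map_closure, Set.image_pair]
      rfl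
    exact Thompson.isPSolvable_of_equiv
      ((Subgroup.equivMapOfInjective _ _ e.injective).trans (MulEquiv.subgroupCongr hmap)) h1

namespace Reduce

/-- The facts on fusion and centralizers used in the reduction. -/
structure Local (P : Sylow p G) : Prop where
  kernels : Kernels P
  cent_inter : ∀ n ∈ Subgroup.normalizer ((P : Subgroup G) : Set G), ∀ x ∈ (P : Subgroup G),
    x ≠ 1 → n * x = x * n →
      n ∈ (P : Subgroup G) ⊔ Subgroup.centralizer ((P : Subgroup G) : Set G)
  commutator : ∀ x ∈ (P : Subgroup G), ∃ n : G, ∃ y ∈ (P : Subgroup G), n * y * n⁻¹ * y⁻¹ = x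

variable [Finite G] [Fact p.Prime]

theorem sylow_ne_bot (h : Hyp P) : (P : Subgroup G) ≠ ⊥ := fun hb => h.not_normal (by
  rw [hb]; infer_instance)

/-- A nontrivial normal subgroup contains a nontrivial central element of `P`. -/
theorem exists_central_mem (h : Hyp P) (Y : Subgroup G) [Y.Normal] (hY : Y ≠ ⊥) :
    ∃ u ∈ Y, u ∈ (P : Subgroup G) ∧ u ≠ 1 ∧ ∀ y ∈ (P : Subgroup G), u * y = y * u := by
  have hp : p.Prime := Fact.out
  have hd : p ∣ Nat.card Y := by
    by_contra hd
    refine hY (le_bot_iff.1 ?_)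
    rw [← h.core]
    exact Thompson.le_pPrimeCore inferInstance ((hp.coprime_iff_not_dvd.2 hd).symm)
  obtain ⟨y, hy⟩ := exists_prime_orderOf_dvd_card' p hd
  rw [← Subgroup.orderOf_coe] at hy
  obtain ⟨R, hR⟩ := (IsPGroup.of_card (p := p) (n := 1) (G := Subgroup.zpowers (y : G))
    (by rw [Nat.card_zpowers, hy, pow_one])).exists_le_sylow
  obtain ⟨g, hg⟩ := MulAction.exists_smul_eq G R P
  have hgy : g * (y : G) * g⁻¹ ∈ (P : Subgroup G) := by
    rw [← hg, Sylow.coe_subgroup_smul]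
    exact ⟨(y : G), hR (Subgroup.mem_zpowers _), rfl⟩
  have hne : Y.subgroupOf (P : Subgroup G) ≠ ⊥ := by
    intro hb
    have h1 : (⟨g * (y : G) * g⁻¹, hgy⟩ : (P : Subgroup G)) ∈ Y.subgroupOf (P : Subgroup G) :=
      Subgroup.mem_subgroupOf.2 (Subgroup.Normal.conj_mem inferInstance _ y.2 g)
    rw [hb, Subgroup.mem_bot, Subtype.ext_iff, OneMemClass.coe_one, conj_eq_one_iff] at h1
    rw [h1, orderOf_one] at hy
    exact hp.one_lt.ne hy
  obtain ⟨⟨u, hu⟩, hu1⟩ := ((Subgroup.ne_bot_iff_exists_ne_one).1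
    (PGroup.inf_center_ne_bot P.2 (N := Y.subgroupOf (P : Subgroup G)) hne))
  refine ⟨u, Subgroup.mem_subgroupOf.1 hu.1, (u : (P : Subgroup G)).2, ?_, fun a ha => ?_⟩
  · exact fun e => hu1 (Subtype.ext (Subtype.ext e))
  · exact congrArg Subtype.val (Subgroup.mem_center_iff.1 hu.2 ⟨a, ha⟩).symm

/-- A normal subgroup centralising a nontrivial element of `P` is a `p`-group. -/
theorem isPGroup_of_le_centralizer (h : Hyp P) (hl : Local P) (Y : Subgroup G) [Y.Normal] {x : G}
    (hx : x ∈ (P : Subgroup G)) (hx1 : x ≠ 1)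
    (hY : Y ≤ Subgroup.centralizer ({x} : Set G)) : IsPGroup p Y := by
  have hp : p.Prime := Fact.out
  obtain ⟨K, hKn, hKp, hreg, -⟩ := hl.kernels x hx hx1
  set W : Subgroup G :=
    ((K ⊓ Y.subgroupOf (Subgroup.centralizer ({x} : Set G))).map
      (Subgroup.centralizer ({x} : Set G)).subtype) with hW
  have hmem : ∀ w : G, w ∈ W ↔ w ∈ Y ∧ ¬ p ∣ orderOf w := by
    intro w
    constructor
    · rintro ⟨c, ⟨hcK, hcY⟩, rfl⟩
      refine ⟨Subgroup.mem_subgroupOf.1 hcY, fun hd => hKp ?_⟩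
      rw [Subgroup.coe_subtype, Subgroup.orderOf_coe] at hd
      exact hd.trans (Subgroup.orderOf_dvd_natCard K hcK)
    · rintro ⟨hwY, hw⟩
      exact ⟨⟨w, hY hwY⟩, ⟨hreg _ (by rwa [Subgroup.orderOf_mk]), hwY⟩, rfl⟩
  haveI : W.Normal := ⟨fun w hw g => by
    rw [hmem] at hw ⊢
    exact ⟨Subgroup.Normal.conj_mem inferInstance w hw.1 g, by rw [← MulAut.conj_apply, MulEquiv.orderOf_eq]; exact hw.2⟩⟩
  have hWb : W = ⊥ := by
    rw [← le_bot_iff, ← h.core]
    refine Thompson.le_pPrimeCore inferInstance ?_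
    refine Nat.Coprime.coprime_dvd_left ?_ ((hp.coprime_iff_not_dvd.2 hKp).symm)
    exact (Subgroup.card_map_dvd _ _).trans (Subgroup.card_dvd_of_le inf_le_left)
  refine IsPGroup.iff_orderOf.2 fun y => ?_
  have ho : orderOf y ≠ 0 := (orderOf_pos y).ne'
  obtain ⟨k, m, hm, hkm⟩ := Nat.exists_eq_pow_mul_and_not_dvd ho p hp.ne_one
  have hpow : orderOf (y ^ p ^ k) = m := by
    rw [orderOf_pow, hkm, Nat.gcd_eq_right (dvd_mul_right _ _),
      Nat.mul_div_cancel_left _ (pow_pos hp.pos k)]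
  have h1 : ((y ^ p ^ k : Y) : G) ∈ W := (hmem _).2 ⟨(y ^ p ^ k).2, by
    rw [Subgroup.orderOf_coe, hpow]; exact hm⟩
  rw [hWb, Subgroup.mem_bot, OneMemClass.coe_eq_one] at h1
  rw [h1, orderOf_one] at hpow
  exact ⟨k, by rw [hkm, ← hpow, mul_one]⟩

theorem eq_bot_of_isPGroup (h : Hyp P) (hl : Local P) (Y : Subgroup G) [hY : Y.Normal]
    (hYp : IsPGroup p Y) : Y = ⊥ := by
  by_contra hne
  obtain ⟨u, huY, huP, hu1, huc⟩ := exists_central_mem h Y hne
  have hYP : Y ≤ (P : Subgroup G) := (Thompson.le_pCore hY hYp).trans (Thompson.pCore_le_sylow P)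
  set C := Subgroup.centralizer (Group.conjugatesOfSet ({u} : Set G)) with hC
  have huS : u ∈ Group.conjugatesOfSet ({u} : Set G) := Group.subset_conjugatesOfSet rfl
  haveI : C.Normal := ⟨fun c hc g => Subgroup.mem_centralizer_iff.2 fun a ha => by
    have h1 : g⁻¹ * a * g ∈ Group.conjugatesOfSet ({u} : Set G) := by
      have h0 := Group.conj_mem_conjugatesOfSet (c := g⁻¹) ha
      rwa [inv_inv] at h0
    have h2 := Subgroup.mem_centralizer_iff.1 hc _ h1
    calc a * (g * c * g⁻¹) = g * ((g⁻¹ * a * g) * c) * g⁻¹ := by group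
      _ = g * (c * (g⁻¹ * a * g)) * g⁻¹ := by rw [h2]
      _ = g * c * g⁻¹ * a := by group⟩
  have hCu : C ≤ Subgroup.centralizer ({u} : Set G) :=
    Subgroup.centralizer_le (Set.singleton_subset_iff.2 huS)
  have hCP : C ≤ (P : Subgroup G) :=
    (Thompson.le_pCore inferInstance (isPGroup_of_le_centralizer h hl C huP hu1 hCu)).trans
      (Thompson.pCore_le_sylow P)
  have hPC : (P : Subgroup G) ≤ C := by
    intro a ha
    refine Subgroup.mem_centralizer_iff.2 fun w hw => ?_
    obtain ⟨v, hv, hvw⟩ := Group.mem_conjugatesOfSet_iff.1 hw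
    rw [Set.mem_singleton_iff] at hv
    subst hv
    obtain ⟨g, hg⟩ := isConj_iff.1 hvw
    obtain ⟨n, hn, hnu⟩ := h.fusion v huP w
      (hYP (hg ▸ hY.conj_mem v huY g)) ⟨g, hg⟩
    have hna : n⁻¹ * a * n ∈ (P : Subgroup G) := by
      have := (Subgroup.mem_normalizer_iff.1 (inv_mem hn) a).1 ha
      rwa [inv_inv] at this
    rw [← hnu]
    calc n * v * n⁻¹ * a = n * (v * (n⁻¹ * a * n)) * n⁻¹ := by group
      _ = n * ((n⁻¹ * a * n) * v) * n⁻¹ := by rw [huc _ hna]
      _ = a * (n * v * n⁻¹) := by group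
  exact h.not_normal (le_antisymm hPC hCP ▸ (inferInstance : C.Normal))

theorem centralizer_eq_bot (h : Hyp P) (hl : Local P) (Y : Subgroup G) [Y.Normal] (hY : Y ≠ ⊥) :
    Subgroup.centralizer (Y : Set G) = ⊥ := by
  by_contra hne
  obtain ⟨u, huC, huP, hu1, -⟩ := exists_central_mem h (Subgroup.centralizer (Y : Set G)) hne
  refine hY (eq_bot_of_isPGroup h hl Y (isPGroup_of_le_centralizer h hl Y huP hu1 fun y hy => ?_))
  exact Subgroup.mem_centralizer_singleton_iff.2 (Subgroup.mem_centralizer_iff.1 huC y hy)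

/-- A normal subgroup together with the normalizer of `P` inherits the hypotheses. -/
theorem hyp_sup_normalizer (h : Hyp P) (hl : Local P) (Y : Subgroup G) [hYn : Y.Normal] (hY : Y ≠ ⊥) :
    Hyp (P.subtype (le_sup_of_le_right Subgroup.le_normalizer :
      (P : Subgroup G) ≤ Y ⊔ Subgroup.normalizer ((P : Subgroup G) : Set G))) := by
  set H := Y ⊔ Subgroup.normalizer ((P : Subgroup G) : Set G) with hH
  refine h.subtype _ ?_ (fun hle => ?_) fun x hx y hy hg => ?_
  · set W := (Cfsg.pPrimeCore p H).map H.subtype with hW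
    have hWH : W ≤ H := Subgroup.map_subtype_le _
    have hWc : (Nat.card W).Coprime p :=
      Thompson.card_pPrimeCore_coprime.coprime_dvd_left (Subgroup.card_map_dvd _ _)
    have hWn : ∀ a ∈ H, ∀ w ∈ W, a * w * a⁻¹ ∈ W := by
      rintro a ha _ ⟨w, hw, rfl⟩
      exact ⟨⟨a, ha⟩ * w * ⟨a, ha⟩⁻¹, Thompson.instPPrimeCoreNormal.conj_mem w hw _, rfl⟩
    haveI : (W.subgroupOf Y).Normal := ⟨fun w hw a =>
      hWn a (le_sup_left (a := Y) a.2) w hw⟩
    have hWY : W ⊓ Y = ⊥ := by
      have h1 : W.subgroupOf Y ≤ Cfsg.pPrimeCore p Y :=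
        Thompson.le_pPrimeCore inferInstance (hWc.coprime_dvd_left
          (Subgroup.card_comap_dvd_of_injective _ _ Y.subtype_injective))
      have h2 := Subgroup.map_mono (f := Y.subtype) h1
      rw [Subgroup.subgroupOf_map_subtype] at h2
      exact le_bot_iff.1 (h2.trans ((Thompson.map_pPrimeCore_normal_le Y).trans h.core.le))
    have hWC : W ≤ Subgroup.centralizer (Y : Set G) := by
      intro w hw
      refine Subgroup.mem_centralizer_iff.2 fun y hy => ?_
      have h1 : y * w * y⁻¹ * w⁻¹ ∈ W ⊓ Y := ⟨W.mul_mem (hWn y (le_sup_left (a := Y) hy) w hw)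
        (W.inv_mem hw), by
          have := Y.mul_mem hy (hYn.conj_mem _ (Y.inv_mem hy) w)
          simpa [mul_assoc] using this⟩
      rw [hWY, Subgroup.mem_bot, mul_inv_eq_one, mul_inv_eq_iff_eq_mul] at h1
      exact h1
    rw [centralizer_eq_bot h hl Y hY, le_bot_iff, hW] at hWC
    exact (Subgroup.map_eq_bot_iff_of_injective _ H.subtype_injective).1 hWC
  · obtain ⟨u, huY, huP, hu1, -⟩ := exists_central_mem h Y hY
    haveI : ((P : Subgroup G).subgroupOf Y).Normal := ⟨fun a ha y =>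
      (Subgroup.mem_normalizer_iff.1 (hle (le_sup_left (a := Y) y.2)) (a : G)).1 ha⟩
    have h1 : (P : Subgroup G).subgroupOf Y ≤ Cfsg.pCore p Y :=
      Thompson.le_pCore inferInstance (P.2.comap_subtype)
    have h2 : (⟨u, huY⟩ : Y) ∈ (P : Subgroup G).subgroupOf Y := huP
    have h3 := Thompson.map_pCore_normal_le Y ⟨_, h1 h2, rfl⟩
    rw [eq_bot_of_isPGroup h hl _ (Thompson.isPGroup_pCore (p := p) (G := G))] at h3
    exact hu1 h3
  · obtain ⟨g, -, hg⟩ := hg
    obtain ⟨n, hn, hnx⟩ := h.fusion x hx y hy ⟨g, hg⟩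
    exact ⟨n, hn, le_sup_right (a := Y) hn, hnx⟩

/-- The centralizer of a nontrivial element of `P` lies in `M ⊔ C(P)` for normal `M ⊇ P`. -/
theorem centralizer_le_sup (hl : Local P) (M : Subgroup G) [M.Normal]
    (hPM : (P : Subgroup G) ≤ M) {x : G} (hx : x ∈ (P : Subgroup G)) (hx1 : x ≠ 1) :
    Subgroup.centralizer ({x} : Set G) ≤
      M ⊔ Subgroup.centralizer ((P : Subgroup G) : Set G) := by
  have hp : p.Prime := Fact.out
  set S := M ⊔ Subgroup.centralizer ((P : Subgroup G) : Set G) with hS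
  -- the elements of the normaliser of `C_P(x)` in `C(x)` suffice
  have key : ∀ x ∈ (P : Subgroup G), x ≠ 1 →
      (∀ c : Subgroup.centralizer ({x} : Set G),
        c ∈ Subgroup.normalizer ((((P : Subgroup G)).subgroupOf
          (Subgroup.centralizer ({x} : Set G)) : Subgroup _) : Set _) → (c : G) ∈ S) →
      Subgroup.centralizer ({x} : Set G) ≤ S := by
    intro x hx hx1 hN c hc
    set C := Subgroup.centralizer ({x} : Set G) with hC
    set R := (P : Subgroup G).subgroupOf C with hR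
    obtain ⟨K, hKn, hKp, -, hKi⟩ := hl.kernels x hx hx1
    have hRc : Nat.card R = K.index := by
      rw [hKi, hR, ← Subgroup.inf_subgroupOf_right]
      exact Nat.card_congr (Subgroup.subgroupOfEquivOfLe inf_le_right).toEquiv
    have hRi : ¬ p ∣ R.index := by
      have h1 : R.index * Nat.card R = Nat.card K * Nat.card R := by
        rw [R.index_mul_card, hRc, K.card_mul_index]
      rwa [Nat.eq_of_mul_eq_mul_right Nat.card_pos h1]
    obtain ⟨Q, hQ⟩ : ∃ Q : Sylow p C, (Q : Subgroup C) = R :=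
      ⟨(P.2.comap_subtype : IsPGroup p R).toSylow hRi, rfl⟩
    have htop := Sylow.normalizer_sup_eq_top' (N := M.subgroupOf C) Q
      (by rw [hQ]; exact fun a ha => hPM ha)
    have hcm := htop.ge (Subgroup.mem_top (⟨c, hc⟩ : C))
    obtain ⟨a, ha, b, hb, hab⟩ := Subgroup.mem_sup_of_normal_right.1 hcm
    have e : c = (a : G) * (b : G) := (congrArg Subtype.val hab).symm
    rw [e]
    exact S.mul_mem (hN a (hQ ▸ (ha : a ∈ Subgroup.normalizer ((Q : Subgroup C) : Set C)))) (le_sup_left (a := M) hb)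
  -- central elements
  have hcentral : ∀ z ∈ (P : Subgroup G), z ≠ 1 →
      (∀ y ∈ (P : Subgroup G), z * y = y * z) → Subgroup.centralizer ({z} : Set G) ≤ S := by
    intro z hz hz1 hzc
    refine key z hz hz1 fun c hc => ?_
    have hPC : (P : Subgroup G) ≤ Subgroup.centralizer ({z} : Set G) := fun a ha =>
      Subgroup.mem_centralizer_singleton_iff.2 (hzc a ha).symm
    have hcN : (c : G) ∈ Subgroup.normalizer ((P : Subgroup G) : Set G) := by
      refine Subgroup.mem_normalizer_iff.2 fun a => ⟨fun ha => ?_, fun ha => ?_⟩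
      · exact (Subgroup.mem_normalizer_iff.1 hc ⟨a, hPC ha⟩).1 ha
      · have haC : a ∈ Subgroup.centralizer ({z} : Set G) := by
          have h1 := Subgroup.mul_mem _ (Subgroup.mul_mem _ (Subgroup.inv_mem _ c.2) (hPC ha)) c.2
          simpa [mul_assoc] using h1
        exact (Subgroup.mem_normalizer_iff.1 hc ⟨a, haC⟩).2 ha
    exact sup_le_sup_right hPM _
      (hl.cent_inter c hcN z hz hz1 (Subgroup.mem_centralizer_singleton_iff.1 c.2))
  refine key x hx hx1 ?_
  set C := Subgroup.centralizer ({x} : Set G) with hC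
  set R := (P : Subgroup G).subgroupOf C with hR
  intro c hc
  obtain ⟨K, hKn, hKp, hreg, hKi⟩ := hl.kernels x hx hx1
  have hRc : Nat.card R = K.index := by
    rw [hKi, hR, ← Subgroup.inf_subgroupOf_right]
    exact Nat.card_congr (Subgroup.subgroupOfEquivOfLe inf_le_right).toEquiv
  have hRp : IsPGroup p R := P.2.comap_subtype
  have hKR : K.IsComplement' R := by
    refine Subgroup.isComplement'_of_coprime (by rw [hRc, K.card_mul_index]) ?_
    obtain ⟨n, hn⟩ := IsPGroup.iff_card.1 hRp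
    rw [hn]
    exact Nat.Coprime.pow_right n ((hp.coprime_iff_not_dvd.2 hKp).symm)
  obtain ⟨⟨k, r⟩, hkr⟩ := (hKR.existsUnique c).exists
  have hk' : (k : C) ∈ Subgroup.normalizer (R : Set C) := by
    have h1 : (k : C) = c * (r : C)⁻¹ := eq_mul_inv_of_mul_eq hkr
    rw [h1]
    exact Subgroup.mul_mem _ hc (Subgroup.inv_mem _ (Subgroup.le_normalizer r.2))
  -- `k` centralises `R`
  have hkR : ∀ a ∈ R, (k : C) * a = a * (k : C) := by
    intro a ha
    have h1 : (k : C) * a * (k : C)⁻¹ * a⁻¹ ∈ K ⊓ R := by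
      refine ⟨?_, R.mul_mem ((Subgroup.mem_normalizer_iff.1 hk' a).1 ha) (R.inv_mem ha)⟩
      have := K.mul_mem k.2 (hKn.conj_mem _ (K.inv_mem k.2) a)
      simpa [mul_assoc] using this
    rw [disjoint_iff.1 hKR.disjoint, Subgroup.mem_bot, mul_inv_eq_one, mul_inv_eq_iff_eq_mul] at h1
    exact h1
  obtain ⟨z, -, hz1, hzc⟩ : ∃ z : G, z ∈ (P : Subgroup G) ∧ z ≠ 1 ∧
      (z ∈ (P : Subgroup G) ∧ ∀ y ∈ (P : Subgroup G), z * y = y * z) := by
    haveI : Nontrivial (P : Subgroup G) :=
      ⟨⟨x, hx⟩, 1, fun e => hx1 (congrArg Subtype.val e)⟩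
    haveI := P.2.center_nontrivial
    obtain ⟨⟨z, hz⟩, hz1⟩ := exists_ne (1 : Subgroup.center (P : Subgroup G))
    exact ⟨z, z.2, fun e => hz1 (Subtype.ext (Subtype.ext e)), z.2,
      fun y hy => congrArg Subtype.val (Subgroup.mem_center_iff.1 hz ⟨y, hy⟩).symm⟩
  have hzC : z ∈ C := Subgroup.mem_centralizer_singleton_iff.2 (hzc.2 x hx)
  have hkz : ((k : C) : G) ∈ Subgroup.centralizer ({z} : Set G) :=
    Subgroup.mem_centralizer_singleton_iff.2
      (congrArg Subtype.val (hkR ⟨z, hzC⟩ hzc.1))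
  rw [← hkr]
  exact S.mul_mem (hcentral z hzc.1 hz1 hzc.2 hkz)
    (le_sup_of_le_left hPM r.2)

/-- A normal subgroup containing `P` inherits the hypotheses. -/
theorem hyp_normal (h : Hyp P) (hl : Local P) (M : Subgroup G) [hM : M.Normal]
    (hPM : (P : Subgroup G) ≤ M) : Hyp (P.subtype hPM) := by
  refine h.subtype hPM ?_ (fun hle => ?_) fun x hx y hy hg => ?_
  · refine (Subgroup.map_eq_bot_iff_of_injective _ M.subtype_injective).1 (le_bot_iff.1 ?_)
    exact (Thompson.map_pPrimeCore_normal_le M).trans h.core.le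
  · haveI : ((P : Subgroup G).subgroupOf M).Normal :=
      (Subgroup.normal_subgroupOf_iff_le_normalizer hPM).2 hle
    refine sylow_ne_bot h (le_bot_iff.1 ?_)
    have h1 : (P : Subgroup G).subgroupOf M ≤ Cfsg.pCore p M :=
      Thompson.le_pCore inferInstance P.2.comap_subtype
    have h2 := (Subgroup.map_mono (f := M.subtype) h1).trans (Thompson.map_pCore_normal_le M)
    rwa [Subgroup.map_subgroupOf_eq_of_le hPM,
      eq_bot_of_isPGroup h hl _ (Thompson.isPGroup_pCore (p := p) (G := G))] at h2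
  · by_cases hx1 : x = 1
    · obtain ⟨g, -, hg⟩ := hg
      exact ⟨1, one_mem _, one_mem _, by simp [← hg, hx1]⟩
    obtain ⟨g, hgM, hg⟩ := hg
    obtain ⟨n, hn, hnx⟩ := h.fusion x hx y hy ⟨g, hg⟩
    have hc : g⁻¹ * n ∈ Subgroup.centralizer ({x} : Set G) := by
      refine Subgroup.mem_centralizer_singleton_iff.2 ?_
      have h1 : g * x * g⁻¹ = n * x * n⁻¹ := hg.trans hnx.symm
      calc g⁻¹ * n * x = g⁻¹ * (n * x * n⁻¹) * n := by group
        _ = g⁻¹ * (g * x * g⁻¹) * n := by rw [h1]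
        _ = x * (g⁻¹ * n) := by group
    have hn' : n ∈ M ⊔ Subgroup.centralizer ((P : Subgroup G) : Set G) := by
      have h1 := centralizer_le_sup hl M hPM hx hx1 hc
      simpa using Subgroup.mul_mem _ (le_sup_left (b := Subgroup.centralizer
        ((P : Subgroup G) : Set G)) hgM) h1
    obtain ⟨m, hm, c, hcP, hmc⟩ := Subgroup.mem_sup_of_normal_left.1 hn'
    have hcN : c ∈ Subgroup.normalizer ((P : Subgroup G) : Set G) := by
        refine Subgroup.mem_normalizer_iff.2 fun a => ⟨fun ha => ?_, fun ha => ?_⟩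
        · rwa [← Subgroup.mem_centralizer_iff.1 hcP a ha, mul_inv_cancel_right]
        · have h2 := Subgroup.mem_centralizer_iff.1 hcP _ ha
          rw [inv_mul_cancel_right] at h2
          have : a = c * a * c⁻¹ := mul_left_cancel h2.symm |>.symm
          rwa [this]
    refine ⟨m, ?_, hm, ?_⟩
    · rw [eq_mul_inv_of_mul_eq hmc]
      exact Subgroup.mul_mem _ hn (Subgroup.inv_mem _ hcN)
    · rw [← hnx, ← hmc]
      have h2 : c * x * c⁻¹ = x := by
        rw [← Subgroup.mem_centralizer_iff.1 hcP x hx, mul_inv_cancel_right]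
      calc m * x * m⁻¹ = m * (c * x * c⁻¹) * m⁻¹ := by rw [h2]
        _ = _ := by group

/-- A minimal configuration is simple. -/
theorem isSimpleGroup_of_minimal (h : Hyp P) (hl : Local P)
    (hmin : ∀ (H : Subgroup G) (hH : (P : Subgroup G) ≤ H), Hyp (P.subtype hH) → H = ⊤) :
    IsSimpleGroup G := by
  haveI : Nontrivial G := by
    obtain ⟨a, -, ha⟩ := Subgroup.bot_or_exists_ne_one (P : Subgroup G) |>.resolve_left
      (sylow_ne_bot h)
    exact ⟨a, 1, ha⟩
  refine ⟨fun Y hY => ?_⟩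
  by_contra hne
  push Not at hne
  set N := Subgroup.normalizer ((P : Subgroup G) : Set G) with hN
  have hYN : Y ⊔ N = ⊤ := hmin _ _ (hyp_sup_normalizer h hl Y hne.1)
  have hYP : (Y ⊔ (P : Subgroup G)).Normal := by
    refine ⟨fun a ha g => ?_⟩
    have hgm : g ∈ Y ⊔ N := by rw [hYN]; trivial
    obtain ⟨y, hy, n, hn, rfl⟩ := Subgroup.mem_sup_of_normal_left.1 hgm
    obtain ⟨b, hb, c, hc, rfl⟩ := Subgroup.mem_sup_of_normal_left.1 ha
    have h1 : n * (b * c) * n⁻¹ ∈ Y ⊔ (P : Subgroup G) := by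
      rw [show n * (b * c) * n⁻¹ = n * b * n⁻¹ * (n * c * n⁻¹) by group]
      exact Subgroup.mul_mem _ ((le_sup_left : Y ≤ Y ⊔ (P : Subgroup G)) (hY.conj_mem b hb n))
        (le_sup_right (a := Y) ((Subgroup.mem_normalizer_iff.1 hn c).1 hc))
    have hyY : y ∈ Y ⊔ (P : Subgroup G) := le_sup_left (b := (P : Subgroup G)) hy
    rw [show y * n * (b * c) * (y * n)⁻¹ = y * (n * (b * c) * n⁻¹) * y⁻¹ by group]
    exact Subgroup.mul_mem _ (Subgroup.mul_mem _ hyY h1) (Subgroup.inv_mem _ hyY)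
  have htop : Y ⊔ (P : Subgroup G) = ⊤ := hmin _ _ (hyp_normal h hl _ le_sup_right)
  have hsurj : ∀ q : G ⧸ Y, ∃ a ∈ (P : Subgroup G), (a : G ⧸ Y) = q := by
    intro q
    obtain ⟨g, rfl⟩ := QuotientGroup.mk_surjective q
    have hgm : g ∈ Y ⊔ (P : Subgroup G) := by rw [htop]; trivial
    obtain ⟨b, hb, c, hc, rfl⟩ := Subgroup.mem_sup_of_normal_left.1 hgm
    exact ⟨c, hc, by rw [QuotientGroup.mk_mul, (QuotientGroup.eq_one_iff b).2 hb, one_mul]⟩
  have hQp : IsPGroup p (G ⧸ Y) := by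
    intro q
    obtain ⟨a, ha, rfl⟩ := hsurj q
    obtain ⟨k, hk⟩ := P.2 ⟨a, ha⟩
    refine ⟨k, ?_⟩
    rw [← QuotientGroup.mk_pow]
    have := congrArg Subtype.val hk
    simp only [SubmonoidClass.coe_pow, OneMemClass.coe_one] at this
    rw [this, QuotientGroup.mk_one]
  have hperf : commutator (G ⧸ Y) = ⊤ := by
    refine top_le_iff.1 fun q _ => ?_
    obtain ⟨a, ha, rfl⟩ := hsurj q
    obtain ⟨n, y, -, hny⟩ := hl.commutator a ha
    rw [← hny, commutator_def]
    exact Subgroup.commutator_mem_commutator (g₁ := (n : G ⧸ Y)) (g₂ := (y : G ⧸ Y))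
      (Subgroup.mem_top _) (Subgroup.mem_top _)
  haveI := hQp.isNilpotent
  rcases subsingleton_or_nontrivial (G ⧸ Y) with hs | hs
  · exact hne.2 (eq_top_iff.2 fun g _ => (QuotientGroup.eq_one_iff g).1 (Subsingleton.elim _ _))
  · exact (Group.IsSolvable.commutator_lt_top_of_nontrivial (G ⧸ Y)).ne hperf

/-- A simple subgroup containing `P` inherits the hypotheses. -/
theorem exists_simple_of (h : Hyp P)
    (hloc : ∀ (H : Subgroup G) (Q : Sylow p H), Hyp Q → Local Q) :
    ∃ (H : Subgroup G) (hH : (P : Subgroup G) ≤ H),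
      Hyp (P.subtype hH) ∧ IsSimpleGroup H ∧ ∃ a b : H, a * b ≠ b * a := by
  classical
  have htop : Hyp (P.subtype (le_top : (P : Subgroup G) ≤ ⊤)) := by
    refine h.congr Subgroup.topEquiv.symm ?_
    ext x
    simp only [Subgroup.mem_map, Sylow.coe_subtype, Subgroup.mem_subgroupOf]
    exact ⟨fun ⟨a, ha, hax⟩ => hax ▸ ha, fun hx => ⟨x.1, hx, rfl⟩⟩
  let s : Set (Subgroup G) := {H | ∃ hH : (P : Subgroup G) ≤ H, Hyp (P.subtype hH)}
  obtain ⟨H, ⟨hH, hHyp⟩, hmin⟩ := Set.exists_min_image s (fun H : Subgroup G => Nat.card H)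
    (Set.toFinite s) ⟨⊤, le_top, htop⟩
  have hsimple : IsSimpleGroup H := by
    refine isSimpleGroup_of_minimal hHyp (hloc H _ hHyp) fun K hK hKh => ?_
    have hK' : (P : Subgroup G) ≤ K.map H.subtype := fun a ha =>
      ⟨⟨a, hH ha⟩, hK (Subgroup.mem_subgroupOf.2 ha), rfl⟩
    have hKs : K.map H.subtype ∈ s := ⟨hK', hKh.congr
      (Subgroup.equivMapOfInjective K H.subtype H.subtype_injective) (by
        ext x
        simp only [Subgroup.mem_map, Sylow.coe_subtype, Subgroup.mem_subgroupOf]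
        refine ⟨fun ⟨a, ha, hax⟩ => hax ▸ ha, fun hx => ?_⟩
        obtain ⟨a, ha, hax⟩ := x.2
        exact ⟨⟨a, ha⟩, by rw [← hax] at hx; exact hx, Subtype.ext hax⟩)⟩
    have hle := hmin _ hKs
    refine Subgroup.eq_top_of_card_eq _ (le_antisymm (Subgroup.card_le_card_group K) ?_)
    rwa [← Nat.card_congr (K.equivMapOfInjective H.subtype H.subtype_injective).toEquiv] at hle
  refine ⟨H, hH, hHyp, hsimple, ?_⟩
  by_contra hab
  push Not at hab
  refine hHyp.not_normal ⟨fun a ha g => ?_⟩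
  rwa [hab g a, mul_inv_cancel_right]

end Reduce

end Cfsg.Agent.PComp40
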