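import Cfsg.Agent.PComp40.Group
import Cfsg.Agent.PComp40.Reduce

/-!
# A simple subgroup with the hypotheses
-/

set_option autoImplicit false

namespace Cfsg.Agent.PComp40

universe u

variable {G : Type u} [Group G] [Finite G] {p : ℕ} [Fact p.Prime] {P : Sylow p G}

theorem Hyp.exists_simple (h : Hyp P) :
    ∃ (H : Subgroup G) (hH : (P : Subgroup G) ≤ H),
      Hyp (P.subtype hH) ∧ IsSimpleGroup H ∧ ∃ a b : H, a * b ≠ b * a := by
  refine Reduce.exists_simple_of h fun H Q hQ => ⟨hQ.kernels, fun n hn x hx hx1 hc =>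
    hQ.cent_inter hn hx hx1 hc, fun x hx => ?_⟩
  obtain ⟨n, -, y, hy, hny⟩ := hQ.exists_commutator hx
  exact ⟨n, y, hy, hny⟩

end Cfsg.Agent.PComp40
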