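import Cfsg.Agent.PComp40.Defs

/-!
# The kernel of order 64 with three involutions

The properties of a nonabelian `P` with three involutions, all central, and an automizer of order 3
that the character count of the case `p = 2` of small rank uses.
-/

set_option autoImplicit false

namespace Cfsg.Agent.PComp40

universe u

variable {G : Type u} [Group G] {P : Sylow 2 G} {L : Type u} [Group L] [Fintype L]

/-- The shape of the frame in the nonabelian case of three central involutions. -/
structure SixtyFour (F : Frame P L) : Prop where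
  card : Nat.card (P : Subgroup G) = 64
  index : F.K.index = 3
  mem_center : ∀ z : F.K, z ∈ Subgroup.center F.K ↔ z ^ 2 = 1
  card_center : Nat.card (Subgroup.center F.K) = 4
  sq_mem : ∀ k : F.K, k ^ 2 ∈ Subgroup.center F.K
  commutator_eq : commutator F.K = Subgroup.center F.K
  card_centralizer : ∀ x : F.K, x ∉ Subgroup.center F.K →
    Nat.card (Subgroup.centralizer ({x} : Set F.K)) = 16
  nonlinear : ∀ θ : Cfsg.IrrCharacter F.K, (θ : F.K → ℂ) 1 ≠ 1 →
    (θ : F.K → ℂ) 1 = 4 ∧ ∀ x : F.K, x ∉ Subgroup.center F.K → (θ : F.K → ℂ) x = 0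
  nonlinear_orbit : ∀ θ θ' : Cfsg.IrrCharacter F.K,
    (θ : F.K → ℂ) 1 ≠ 1 → (θ' : F.K → ℂ) 1 ≠ 1 →
      Cfsg.indFun F.K (θ : F.K → ℂ) = Cfsg.indFun F.K (θ' : F.K → ℂ)

end Cfsg.Agent.PComp40
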